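import Cfsg.Agent.H740.FiveBase
import Cfsg.Agent.H417.DegMEleven
import Cfsg.Agent.H417.DegMTwelve
import Cfsg.Agent.H417.DegMTwentyTwo
import Cfsg.Agent.H417.DegMTwentyThree
import Cfsg.Agent.H417.DegMTwentyFour
import Cfsg.Agent.H417.RecogMathieu
import Cfsg.Agent.H417.RecogMTwelve
import Cfsg.Agent.S2060
import Cfsg.Agent.S2061
import Cfsg.Agent.S2062
import Cfsg.Agent.S2063
import Cfsg.Agent.S2064

/-!
# Almost simple groups with socle a Mathieu group: at least five character degrees (helper603)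
-/

set_option autoImplicit false

open Cfsg

namespace Cfsg.Agent.H603.FD.Spor

open Cfsg.Agent.H740.FiveBase

universe u v

section Degrees

variable {K : Type u} [Group K] [Finite K]

theorem m11 (h : IsM11 K) : 10 ∈ charDegrees K ∧ 45 ∈ charDegrees K ∧ 16 ∈ charDegrees K ∧
    55 ∈ charDegrees K := by
  obtain ⟨x, hx, v, hB⟩ := SporadicA.M11Facts.exists_caseC h
  refine ⟨⟨v 1, Blocks.Basic.charDegree_of_eq ?_⟩, ⟨v 4, Blocks.Basic.charDegree_of_eq ?_⟩,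
    ⟨v 5, Blocks.Basic.charDegree_of_eq ?_⟩, H417.DegMEleven.mem_55 h⟩
  · exact hB.degs 1
  · exact hB.degs 4
  · exact hB.degs 5

theorem m12 (h : IsM12 K) : 16 ∈ charDegrees K ∧ 45 ∈ charDegrees K ∧ 54 ∈ charDegrees K ∧
    120 ∈ charDegrees K := by
  classical
  have hs : IsSimpleGroup K := h.1
  have hc : Nat.card K = 95040 := h.2
  have := Fintype.ofFinite K
  have := Characters.Core.finite_irr (G := K)
  have := Fintype.ofFinite (IrrCharacter K)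
  obtain ⟨C, t, hdeg, -⟩ := H417.DegMTwelve.exists_ctx hc
    (fun P => Cfsg.Agent.MTwelve.SylowEleven.centralizer_sylow11 hc P)
    (fun P => Cfsg.Agent.MTwelve.SylowEleven.card_normalizer_sylow11 hc P)
  have hcd : ∀ ψ : IrrCharacter K, charDegree (ψ : K → ℂ) = C.deg ψ := fun ψ => by
    rw [hdeg]
    exact MTwelve.ElevenMain.charDegree_eq_deg ψ
  exact ⟨⟨C.th, (hcd _).trans C.dth⟩, ⟨C.c45, (hcd _).trans C.d45⟩, ⟨C.c54, (hcd _).trans C.d54⟩,
    ⟨C.c120, (hcd _).trans C.d120⟩⟩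

theorem m22 (h : IsM22 K) : 21 ∈ charDegrees K ∧ 45 ∈ charDegrees K ∧ 55 ∈ charDegrees K ∧
    99 ∈ charDegrees K := by
  obtain ⟨f, hf⟩ := H417.DegMTwentyTwo.exists_enum h
  exact ⟨⟨f 1, hf 1⟩, ⟨f 2, hf 2⟩, ⟨f 4, hf 4⟩, ⟨f 5, hf 5⟩⟩

theorem m23 (h : IsM23 K) : 230 ∈ charDegrees K ∧ 45 ∈ charDegrees K ∧ 1035 ∈ charDegrees K ∧
    896 ∈ charDegrees K := by
  obtain ⟨hs, H, z, v, a, b, c, d, g, h', b₁, c₁, E⟩ := H417.DegMTwentyThree.exists_elev' h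
  exact ⟨⟨a, E.dga⟩, ⟨b, E.dgb⟩, ⟨d, E.dgd⟩, ⟨b₁, E.dgb₁⟩⟩

theorem m24 (hG : IsM24 K) : 1035 ∈ charDegrees K ∧ 5796 ∈ charDegrees K ∧ 1771 ∈ charDegrees K ∧
    2024 ∈ charDegrees K := by
  have := hG.1
  obtain ⟨H⟩ := M24Order.Final.exists_hyp hG.2
  have : Fact (Nat.Prime 5) := ⟨by norm_num⟩
  have : Fact (Nat.Prime 7) := ⟨by norm_num⟩
  obtain ⟨R⟩ : Nonempty (Sylow 5 K) := inferInstance
  obtain ⟨S⟩ : Nonempty (Sylow 7 K) := inferInstance
  obtain ⟨L, M, B, ε, a, b, c, d, h5, ⟨K', M', D, a', h7⟩ | ⟨K', M', B', ε', l', h7⟩⟩ :=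
    SporadicA.M24.Convert.exists_blocks H R S
  · obtain ⟨t, v, Θ, Θ', L⟩ := M24Order.ToLast.exists_last H h5 h7
    exact ⟨⟨_, L.d1035⟩, ⟨_, L.d5796⟩, ⟨_, L.d1771⟩, ⟨_, L.d2024⟩⟩
  · exact (S0422.six_false (SporadicA.M24.Convert.conv H) h5 h7).elim

end Degrees

variable {G : Type u} [Group G] [Finite G]

theorem ne_of_two {a b n : ℕ} (hn : n ∣ 2) (h1 : a ≠ b) (h2 : 2 * a ≠ b) (h3 : a ≠ 2 * b) :
    ∀ s t, s ∣ n → t ∣ n → a * s ≠ b * t := by
  intro s t hs ht h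
  have h4 : s = 1 ∨ s = 2 := (Nat.dvd_prime Nat.prime_two).1 (hs.trans hn)
  have h5 : t = 1 ∨ t = 2 := (Nat.dvd_prime Nat.prime_two).1 (ht.trans hn)
  rcases h4 with rfl | rfl <;> rcases h5 with rfl | rfl <;> omega

/-- Four degrees of a normal subgroup of index at most two. -/
theorem five_of_two (M : Subgroup G) [M.Normal] (hidx : M.index ∣ 2) {a b c d : ℕ}
    (h : a ∈ charDegrees M ∧ b ∈ charDegrees M ∧ c ∈ charDegrees M ∧ d ∈ charDegrees M)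
    (ha : a ≠ 1 ∧ b ≠ 1 ∧ c ≠ 1 ∧ d ≠ 1)
    (hab : a ≠ b ∧ 2 * a ≠ b ∧ a ≠ 2 * b) (hac : a ≠ c ∧ 2 * a ≠ c ∧ a ≠ 2 * c)
    (had : a ≠ d ∧ 2 * a ≠ d ∧ a ≠ 2 * d) (hbc : b ≠ c ∧ 2 * b ≠ c ∧ b ≠ 2 * c)
    (hbd : b ≠ d ∧ 2 * b ≠ d ∧ b ≠ 2 * d) (hcd : c ≠ d ∧ 2 * c ≠ d ∧ c ≠ 2 * d) :
    5 ≤ (charDegrees G).ncard :=
  five_of M h.1 h.2.1 h.2.2.1 h.2.2.2 ha.1 ha.2.1 ha.2.2.1 ha.2.2.2
    (ne_of_two hidx hab.1 hab.2.1 hab.2.2) (ne_of_two hidx hac.1 hac.2.1 hac.2.2)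
    (ne_of_two hidx had.1 had.2.1 had.2.2) (ne_of_two hidx hbc.1 hbc.2.1 hbc.2.2)
    (ne_of_two hidx hbd.1 hbd.2.1 hbd.2.2) (ne_of_two hidx hcd.1 hcd.2.1 hcd.2.2)

omit [Finite G] in
theorem index_dvd_two (M : Subgroup G) (hM : M.Normal) (hc : Subgroup.centralizer (M : Set G) = ⊥)
    {K : Type v} [Group K] (e : Nonempty (M ≃* K)) {n : ℕ} (hK : Nat.card (Cfsg.Out K) = n)
    (hn : n ∣ 2) : M.index ∣ 2 := by
  obtain ⟨e⟩ := e
  have h1 := index_dvd_out M hM hc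
  rw [H55.OutGen.card_out_congr e, hK] at h1
  exact h1.trans hn

theorem five_M11 (M : Subgroup G) (hM : M.Normal) (hc : Subgroup.centralizer (M : Set G) = ⊥)
    (h : Cfsg.Spor.IsoM11 M) : 5 ≤ (Cfsg.charDegrees G).ncard :=
  five_of_two M (index_dvd_two M hM hc h S2060.result (by norm_num))
    (m11 (UGT.End.MEleven.isM11 h)) (by omega) (by omega) (by omega) (by omega) (by omega)
    (by omega) (by omega)

theorem isM12 {X : Type*} [Group X] (h : Spor.IsoM12 X) : IsM12 X := by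
  obtain ⟨e⟩ := h
  have := CpAutTThree.MTwelve.simple
  exact ⟨e.isSimpleGroup, by rw [Nat.card_congr e.toEquiv, CpAutTThree.MTwelve.card]⟩

theorem five_M12 (M : Subgroup G) (hM : M.Normal) (hc : Subgroup.centralizer (M : Set G) = ⊥)
    (h : Cfsg.Spor.IsoM12 M) : 5 ≤ (Cfsg.charDegrees G).ncard :=
  five_of_two M (index_dvd_two M hM hc h S2061.result (by norm_num))
    (m12 (isM12 h)) (by omega) (by omega) (by omega) (by omega) (by omega)
    (by omega) (by omega)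

theorem five_M22 (M : Subgroup G) (hM : M.Normal) (hc : Subgroup.centralizer (M : Set G) = ⊥)
    (h : Cfsg.Spor.IsoM22 M) : 5 ≤ (Cfsg.charDegrees G).ncard :=
  five_of_two M (index_dvd_two M hM hc h S2062.result (by norm_num))
    (m22 (H417.RecogMathieu.isM22 h)) (by omega) (by omega) (by omega) (by omega) (by omega)
    (by omega) (by omega)

theorem five_M23 (M : Subgroup G) (hM : M.Normal) (hc : Subgroup.centralizer (M : Set G) = ⊥)
    (h : Cfsg.Spor.IsoM23 M) : 5 ≤ (Cfsg.charDegrees G).ncard :=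
  five_of_two M (index_dvd_two M hM hc h S2063.result (by norm_num))
    (m23 (H417.RecogMathieu.isM23 h)) (by omega) (by omega) (by omega) (by omega) (by omega)
    (by omega) (by omega)

theorem five_M24 (M : Subgroup G) (hM : M.Normal) (hc : Subgroup.centralizer (M : Set G) = ⊥)
    (h : Cfsg.Spor.IsoM24 M) : 5 ≤ (Cfsg.charDegrees G).ncard :=
  five_of_two M (index_dvd_two M hM hc h S2064.result (by norm_num))
    (m24 (H417.RecogMathieu.isM24 h)) (by omega) (by omega) (by omega) (by omega) (by omega)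
    (by omega) (by omega)

end Cfsg.Agent.H603.FD.Spor
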