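import Cfsg.Agent.H603.FD.KillMain
import Cfsg.Agent.H794.TitsPP
import Cfsg.Agent.H690.Spor.Tits
import Cfsg.Agent.H845.CopTits
import Cfsg.Agent.TitsK.Inst
import Cfsg.Agent.TitsK.SheetT
import Cfsg.Agent.FourTwo.Perf
import Cfsg.Agent.H55.OutGen
import Cfsg.Agent.S1074
import Cfsg.Agent.Omega.TwoF.TitsAut

/-!
# Almost simple groups with socle the Tits group: at least five character degrees (helper603)
-/

set_option autoImplicit false

open Cfsg

namespace Cfsg.Agent.H603.FD.TitsRow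

open Subgroup Cfsg.Agent.H603.FD.Kill

universe u

/-- One self-centralizing element of order `p`. -/
theorem cent_of_one {K : Type*} [Group K] [Finite K] {p N0 : ℕ} [hp : Fact p.Prime] (hcard : Nat.card K = p * N0)
    (hpN : ¬ p ∣ N0) {x₀ : K} (hx₀ : orderOf x₀ = p) (h : Nat.card (centralizer ({x₀} : Set K)) = p) (x : K)
    (hx : orderOf x = p) : Nat.card (centralizer ({x} : Set K)) = p := by
  have hpp := hp.out
  have hsyl : ∀ y : K, orderOf y = p → ∃ P : Sylow p K, (P : Subgroup K) = zpowers y := by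
    intro y hy
    have h1 : Nat.card (zpowers y) = p := by rw [Nat.card_zpowers, hy]
    have h2 : IsPGroup p (zpowers y) := IsPGroup.of_card (n := 1) (by rw [h1, pow_one])
    obtain ⟨P, hP⟩ := h2.exists_le_sylow
    refine ⟨P, ?_⟩
    symm
    refine Subgroup.eq_of_le_of_card_ge hP ?_
    have h3 : Nat.card P = p := by
      rw [P.card_eq_multiplicity, hcard, Nat.factorization_mul hpp.ne_zero (by
        intro h; rw [h] at hpN; exact hpN (dvd_zero _)), Finsupp.add_apply, hpp.factorization_self,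
        Nat.factorization_eq_zero_of_not_dvd hpN, pow_one]
    rw [h1]
    exact h3.le
  obtain ⟨P, hP⟩ := hsyl x hx
  obtain ⟨Q, hQ⟩ := hsyl x₀ hx₀
  obtain ⟨g, hg⟩ := MulAction.exists_smul_eq K Q P
  have h1 : (P : Subgroup K) = (Q : Subgroup K).map (MulAut.conj g).toMonoidHom := by
    rw [← hg]
    rfl
  have h2 : zpowers x = zpowers (g * x₀ * g⁻¹) := by
    rw [← hP, h1, hQ, MonoidHom.map_zpowers]
    rfl
  rw [← centralizer_zpowers, h2, centralizer_zpowers]
  have h3 := card_centralizer_equiv (MulAut.conj g) x₀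
  rw [h] at h3
  exact h3.symm

theorem mem_2048 : 2048 ∈ charDegrees Cfsg.Lie.TitsGroup := by
  have : Fact (Nat.Prime 2) := ⟨Nat.prime_two⟩
  obtain ⟨hidx, -, -, hcard⟩ := Cfsg.Agent.S1074.result
  have h0 : FixBN.HasSplit 2 ↥(Cfsg.Lie.twistedF4 (ZMod 2) 1) :=
    H794.TitsPP.hasSplit (K := ZMod 2) (m := 0) (by simp)
  obtain ⟨χ, hχ, h1⟩ := Cfsg.Agent.H163.Steinberg.exists_irr_of_hasSplit h0
  obtain ⟨h2, -⟩ := h1 default
  have hcard' : Nat.card ↥(Cfsg.Lie.twistedF4 (ZMod 2) 1) = 2 ^ 12 * (3 ^ 3 * 5 ^ 2 * 13) := by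
    rw [← Subgroup.card_mul_index (commutator ↥(Cfsg.Lie.twistedF4 (ZMod 2) 1)), hidx]
    have h3 : Nat.card (commutator ↥(Cfsg.Lie.twistedF4 (ZMod 2) 1)) = 2 ^ 11 * 3 ^ 3 * 5 ^ 2 * 13 := hcard
    rw [h3]
    norm_num
  have hQ : Nat.card (default : Sylow 2 ↥(Cfsg.Lie.twistedF4 (ZMod 2) 1)) = 2 ^ 12 := by
    rw [Sylow.card_eq_multiplicity, hcard', Nat.factorization_mul (by norm_num) (by norm_num), Finsupp.add_apply,
      Nat.prime_two.factorization_pow, Finsupp.single_eq_same,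
      Nat.factorization_eq_zero_of_not_dvd (by norm_num), add_zero]
  rw [hQ] at h2
  have hfin : Finite ↥(Cfsg.Lie.twistedF4 (ZMod 2) 1) :=
    Nat.finite_of_card_ne_zero (by rw [hcard']; norm_num)
  have h3 : 2 ^ 12 ∈ charDegrees ↥(Cfsg.Lie.twistedF4 (ZMod 2) 1) :=
    ⟨⟨χ, hχ⟩, Blocks.Basic.charDegree_of_eq h2⟩
  obtain ⟨c, hc, hcd, hci⟩ := H424.DegTools.clifford_down (commutator ↥(Cfsg.Lie.twistedF4 (ZMod 2) 1)) h3
  rw [hidx] at hci
  have hfin' : Finite (commutator ↥(Cfsg.Lie.twistedF4 (ZMod 2) 1)) := inferInstance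
  have h4 : c ∣ 2 ^ 11 * 3 ^ 3 * 5 ^ 2 * 13 := by
    rw [← hcard]
    exact H424.DegTools.dvd_card hc
  obtain ⟨j, hj, rfl⟩ := (Nat.dvd_prime_pow Nat.prime_two).1 hcd
  rw [Nat.pow_div hj (by norm_num)] at hci
  have h5 : j = 11 ∨ j = 12 := by
    have h6 : 2 ^ (12 - j) ∣ 2 ^ 1 := hci
    have h7 := Nat.pow_dvd_pow_iff_le_right' |>.1 h6
    omega
  rcases h5 with rfl | rfl
  · exact hc
  · norm_num at h4

theorem out_tits {K : Type*} [Group K] (h : Cfsg.Lie.IsoTits K) : Nat.card (Cfsg.Out K) ∣ 2 := by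
  obtain ⟨e⟩ := H690.Spor.Tits.nonempty_equiv h
  have hfin : Finite Cfsg.Agent.FourTwo.Base.LL := Cfsg.Agent.FourTwo.Perf.instFiniteLL
  have h1 := Cfsg.Agent.TitsK.tdata.index_inn
  have h2 := H55.OutGen.card_out_congr (H := ↥Cfsg.Agent.TitsK.TT) e
  rw [h2, H55.OutGen.card_out_eq_index]
  exact h1

theorem im_tits {K : Type*} [Group K] (h : Cfsg.Lie.IsoTits K) (hcard : Nat.card K = 13 * 1382400) :
    H33.IM 13 K := by
  obtain ⟨χ, hχ⟩ := H690.Spor.Tits.hasDZ h (p := 13) (by norm_num) (by norm_num) (by norm_num)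
  refine ⟨χ, ?_⟩
  by_contra hd
  rw [Nat.factorization_eq_zero_of_not_dvd hd, hcard, Nat.factorization_mul (by norm_num) (by norm_num),
    Finsupp.add_apply, (by norm_num : Nat.Prime 13).factorization_self] at hχ
  omega

theorem cent_aux {S : Type*} [Group S] [Finite S] (h : Cfsg.Lie.IsoTits S) (D : H87.TitsAbs.Dat S)
    (hcard : Nat.card S = 13 * 1382400) (x : S) (hx : orderOf x = 13) :
    Nat.card (centralizer ({x} : Set S)) = 13 := by
  have f13 : Fact (Nat.Prime 13) := ⟨by norm_num⟩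
  exact cent_of_one (p := 13) (N0 := 1382400) hcard (by norm_num) (orderOf_eq_prime D.x13 D.x1)
    (H845.CopTits.card_cent_x h D) x hx

variable {G : Type u} [Group G] [Finite G]

theorem five_aux {K : Type*} [Group K] (M : Subgroup G) (hM : M.Normal)
    (hc : Subgroup.centralizer (M : Set G) = ⊥) (h : Cfsg.Lie.IsoTits M) (e : M ≃* K)
    (h' : Cfsg.Lie.IsoTits K) (hD : 2048 ∈ charDegrees K) (D : H87.TitsAbs.Dat K) :
    5 ≤ (Cfsg.charDegrees G).ncard := by
  have f13 : Fact (Nat.Prime 13) := ⟨by norm_num⟩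
  have hs : IsSimpleGroup M := Omega.TwoF.TitsAut.simple_iso h
  have hcard : Nat.card M = 13 * 1382400 := by
    rw [Omega.TwoF.TitsAut.card_iso h]; norm_num
  have hcK : Nat.card K = 13 * 1382400 := by
    rw [← Nat.card_congr e.toEquiv, hcard]
  have hfK : Finite K := Finite.of_equiv _ e.toEquiv
  have hidx : M.index ∣ 2 := (H740.FiveBase.index_dvd_out M hM hc).trans (out_tits h)
  refine five_of_kill (p := 13) (N0 := 1382400) (e0 := 6) (e1 := 12) (D0 := 2048) M hM hc hs hidx (by norm_num)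
    hcard (by norm_num) (by norm_num) (by norm_num) (by norm_num) (by norm_num) (by norm_num) (by norm_num)
    (fun x hx => (card_centralizer_equiv e x).trans (cent_aux h' D hcK _ ((MulEquiv.orderOf_eq e x).trans hx)))
    (im_tits h hcard) ?_ (by norm_num) (by norm_num)
    (by decide +kernel) (by decide +kernel) (by decide +kernel) (by decide +kernel) (by decide +kernel)
  rw [H424.DegTools.charDegrees_congr e]
  exact hD

theorem five_gen {A : Type} [Group A] (T : Subgroup A) (M : Subgroup G) (hM : M.Normal)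
    (hc : Subgroup.centralizer (M : Set G) = ⊥) (h : Cfsg.Lie.IsoTits M) (e : Nonempty (M ≃* commutator T))
    (h' : Cfsg.Lie.IsoTits (commutator T)) (hD : 2048 ∈ charDegrees (commutator T))
    (D : Nonempty (H87.TitsAbs.Dat (commutator T))) : 5 ≤ (Cfsg.charDegrees G).ncard := by
  obtain ⟨e⟩ := e
  obtain ⟨D⟩ := D
  exact five_aux M hM hc h e h' hD D

theorem iso_refl : Cfsg.Lie.IsoTits Cfsg.Lie.TitsGroup := ⟨MulEquiv.refl _⟩

theorem five_tits (M : Subgroup G) (hM : M.Normal) (hc : Subgroup.centralizer (M : Set G) = ⊥)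
    (h : Cfsg.Lie.IsoTits M) : 5 ≤ (Cfsg.charDegrees G).ncard :=
  five_gen (Cfsg.Lie.twistedF4 (ZMod 2) 1) M hM hc h h iso_refl mem_2048 H87.TitsData.dat_tits

end Cfsg.Agent.H603.FD.TitsRow
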