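import Cfsg.Agent.H603.FD.KillMain
import Cfsg.Agent.H413.JOneSpec
import Cfsg.Agent.S2065
import Cfsg.Agent.H55.OutGen

/-!
# Almost simple groups with socle `J₁`: at least five character degrees (helper603)
-/

set_option autoImplicit false

open Cfsg

namespace Cfsg.Agent.H603.FD.JOne

open Subgroup Cfsg.Agent.H413.JOneSpec Cfsg.Agent.H413.JOneLocal Cfsg.Agent.SporadicB.J1.Main
open Cfsg.Agent.SporRec.J1.Defs
open Cfsg.Spor (J1)
open Cfsg.Agent.H603.FD.Kill

theorem card_cent' {J : Type*} [Group J] [Finite J] [IsSimpleGroup J] (h : Local J) (hc : Nat.card J = 175560) {y : J}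
    (hy : orderOf y = 19) : Nat.card (centralizer ({y} : Set J)) = 19 := by
  have hB : Big (orderOf y) := Or.inr (Or.inr hy)
  have h1 := cent_big h hc hB
  have h2 : 19 ∣ Nat.card (centralizer ({y} : Set J)) := by
    have := mem_cent_dvd (x := y) (y := y) rfl
    rwa [hy] at this
  obtain ⟨c, hcc⟩ := h2
  have h3 : c ∣ 77 := by
    have h4 : 19 * c ∣ 19 * 77 := by rw [← hcc]; exact h1
    exact Nat.dvd_of_mul_dvd_mul_left (by norm_num) h4
  have h5 : c = 1 := by
    by_contra hc1
    obtain ⟨p, hp, hpc⟩ := Nat.exists_prime_and_dvd hc1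
    have hp' : p ∣ 7 * 11 := hpc.trans h3
    have hpp : p = 7 ∨ p = 11 := by
      rcases hp.dvd_mul.1 hp' with h6 | h6
      · exact Or.inl ((Nat.prime_dvd_prime_iff_eq hp (by norm_num)).1 h6)
      · exact Or.inr ((Nat.prime_dvd_prime_iff_eq hp (by norm_num)).1 h6)
    have : Fact p.Prime := ⟨hp⟩
    obtain ⟨x, hx⟩ := exists_prime_orderOf_dvd_card' (G := centralizer ({y} : Set J)) p
      (by rw [hcc]; exact hpc.mul_left _)
    have hx' : orderOf (x : J) = p := by rw [Subgroup.orderOf_coe, hx]
    refine big_false h hc (x := (x : J)) (y := y) ?_ hB ?_ (mem_centralizer_singleton_iff.1 x.2)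
    · rw [hx']
      rcases hpp with h6 | h6
      · exact Or.inl h6
      · exact Or.inr (Or.inl h6)
    · rw [hx', hy]
      rcases hpp with h6 | h6 <;> omega
  rw [hcc, h5]

theorem arith1 : ∀ u : ℕ, u < 200 → 1 < u → ¬ u * (5 * u + 1) ∣ 175560 ∨ u % 19 ≠ 1 := by
  decide +kernel

theorem arith2 : ∀ u : ℕ, u < 200 → 1 < u → ¬ u * (5 * u - 1) ∣ 175560 ∨ u % 19 ≠ 18 := by
  decide +kernel

universe u

theorem five_J1 {G : Type u} [Group G] [Finite G] (M : Subgroup G) (hM : M.Normal)
    (hc : Subgroup.centralizer (M : Set G) = ⊥) (h : Cfsg.Spor.IsoJ1 M) :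
    5 ≤ (Cfsg.charDegrees G).ncard := by
  obtain ⟨e⟩ := h
  have hsJ : IsSimpleGroup J1 := isJ1.1
  have hs : IsSimpleGroup M := e.isSimpleGroup
  have hcJ : Nat.card J1 = 175560 := isJ1.2
  have hfin : Finite J1 := Nat.finite_of_card_ne_zero (by rw [hcJ]; norm_num)
  have hp : Fact (Nat.Prime 19) := ⟨by norm_num⟩
  have hidx : M.index = 1 := by
    have h1 := H740.FiveBase.index_dvd_out M hM hc
    rw [H55.OutGen.card_out_congr e, S2065.result] at h1
    exact Nat.dvd_one.1 h1
  have hCM : ∀ x : J1, orderOf x = 19 → Nat.card (centralizer ({x} : Set J1)) = 19 :=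
    fun x hx => card_cent' isLocal hcJ hx
  have hIM : H33.IM 19 J1 := by
    refine im_of_orders (p := 19) (N0 := 9240) (e0 := 6) (by rw [hcJ]) (by norm_num) (by norm_num)
      (by norm_num) hCM {1, 2, 3, 5, 7, 11, 6} ?_ (by decide)
    intro n hn
    refine ⟨?_, (exists_orderOf_iff n).2 ?_⟩
    · simp only [Finset.mem_insert, Finset.mem_singleton] at hn
      rcases hn with rfl | rfl | rfl | rfl | rfl | rfl | rfl <;> norm_num
    · simp only [Finset.mem_insert, Finset.mem_singleton] at hn
      rcases hn with rfl | rfl | rfl | rfl | rfl | rfl | rfl <;> decide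
  by_contra hcon
  rw [not_le] at hcon
  obtain ⟨u, v, hu1, hu, hv, huv⟩ := inner (p := 19) (N0 := 9240) (e := 6) M hM hc hs hidx (by norm_num)
    (by rw [Nat.card_congr e.toEquiv, hcJ]) (by norm_num) (by norm_num) (by norm_num) (by norm_num)
    (fun x hx => (card_centralizer_equiv e x).trans (hCM _ ((MulEquiv.orderOf_eq e x).trans hx)))
    (hIM.of_equiv e) hcon
  rcases huv with ⟨h1, h2⟩ | ⟨h1, h2⟩
  · have h3 : v = 5 * u + 1 := by push_cast at h2; omega
    subst h3
    have hcop : Nat.Coprime u (5 * u + 1) := by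
      rw [Nat.coprime_mul_right_add_right]
      exact Nat.coprime_one_right u
    have h4 := hcop.mul_dvd_of_dvd_of_dvd hu hv
    have h5 : u < 200 := by
      by_contra hcon
      have := Nat.le_of_dvd (by norm_num) h4
      nlinarith
    rcases arith1 u h5 hu1 with h6 | h6
    · exact h6 h4
    · apply h6
      push_cast at h1
      omega
  · have h3 : v = 5 * u - 1 := by push_cast at h2; omega
    subst h3
    have hcop : Nat.Coprime u (5 * u - 1) := by
      have h5 : 5 * u - 1 + 1 = 5 * u := by omega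
      have h6 : Nat.Coprime (5 * u) (5 * u - 1) := by
        rw [← h5, Nat.add_sub_cancel]
        exact (Nat.coprime_self_add_left).2 (Nat.coprime_one_left _)
      exact Nat.Coprime.coprime_mul_left h6
    have h4 := hcop.mul_dvd_of_dvd_of_dvd hu hv
    have h5 : u < 200 := by
      by_contra hcon
      have h7 := Nat.le_of_dvd (by norm_num) h4
      have h8 : 200 * 999 ≤ u * (5 * u - 1) := Nat.mul_le_mul (by omega) (by omega)
      omega
    rcases arith2 u h5 hu1 with h6 | h6
    · exact h6 h4
    · apply h6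
      push_cast at h1
      omega

end Cfsg.Agent.H603.FD.JOne
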