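import Cfsg.Agent.H638.FD.Blk
import Cfsg.Agent.H593.IMCyc
import Cfsg.Agent.H597.ThreeDegD
import Cfsg.Agent.H740.FiveBase

/-!
# Five character degrees from one prime (helper603)

Almost simple groups `G` with socle `M`, `|G : M| ≤ 2`, and a prime `p` dividing `|M|` exactly once with
self-centralizing Sylow subgroup in `M`: the relation between the degrees of the principal `p`-block
excludes four degrees.

* `relIndex_eq` : the inertial index by Sylow's theorem.
* `exists_three` : a nonsolvable group with fewer than five degrees has exactly four.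
* `eqn` : the equation when one of the three degrees is divisible by `p`.
* `five_of_kill` : one degree of `M` prime to `p` known.
-/

set_option autoImplicit false

open Cfsg

namespace Cfsg.Agent.H603.FD.Kill

open Cfsg.Agent.H33

universe u

section Basic

variable {G : Type u} [Group G] [Finite G]

omit [Finite G] in
theorem one_mem : 1 ∈ charDegrees G := by
  refine ⟨⟨fun _ => 1, Characters.Core.isIrr_one⟩, ?_⟩
  apply Blocks.Basic.charDegree_of_eq
  simp

theorem dvd_card {d : ℕ} (h : d ∈ charDegrees G) : d ∣ Nat.card G := by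
  obtain ⟨χ, rfl⟩ := h
  exact Blocks.Knorr.charDegree_dvd χ.2

theorem pos_of_mem {d : ℕ} (h : d ∈ charDegrees G) : 0 < d :=
  Nat.pos_of_dvd_of_pos (dvd_card h) Nat.card_pos

theorem four (S : Set ℕ) (hS : S.Finite) (h1 : 1 ∈ S) (h : S.ncard = 4) :
    ∃ a b c, S = {1, a, b, c} ∧ a ≠ 1 ∧ b ≠ 1 ∧ c ≠ 1 ∧ a ≠ b ∧ a ≠ c ∧ b ≠ c := by
  have h2 : (S \ {1}).ncard = 3 := by
    have h3 := Set.ncard_sdiff_singleton_add_one h1 hS
    omega
  obtain ⟨a, b, c, hab, hac, hbc, h3⟩ := Set.ncard_eq_three.1 h2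
  have ha : a ∈ S \ {1} := by rw [h3]; simp
  have hb : b ∈ S \ {1} := by rw [h3]; simp
  have hc : c ∈ S \ {1} := by rw [h3]; simp
  refine ⟨a, b, c, ?_, fun h => ha.2 h, fun h => hb.2 h, fun h => hc.2 h, hab, hac, hbc⟩
  rw [← h3]
  ext x
  by_cases hx : x = 1
  · subst hx; simp [h1]
  · simp [hx]

theorem le_three (S : Set ℕ) (hS : S.Finite) (h1 : 1 ∈ S) (h : S.ncard < 4) :
    ∃ m n, S ⊆ {1, m, n} := by
  have h3 := Set.ncard_sdiff_singleton_add_one h1 hS
  have hf : (S \ {1}).Finite := hS.subset Set.sdiff_subset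
  have h4 : ∃ m n, S \ {1} ⊆ {m, n} := by
    have h5 : (S \ {1}).ncard = 0 ∨ (S \ {1}).ncard = 1 ∨ (S \ {1}).ncard = 2 := by omega
    rcases h5 with h5 | h5 | h5
    · rw [Set.ncard_eq_zero hf] at h5
      exact ⟨0, 0, by rw [h5]; exact Set.empty_subset _⟩
    · obtain ⟨a, ha⟩ := Set.ncard_eq_one.1 h5
      exact ⟨a, a, by rw [ha]; simp⟩
    · obtain ⟨a, b, -, ha⟩ := Set.ncard_eq_two.1 h5
      exact ⟨a, b, by rw [ha]⟩
  obtain ⟨m, n, h5⟩ := h4
  refine ⟨m, n, fun x hx => ?_⟩
  by_cases hx1 : x = 1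
  · subst hx1; simp
  · have h6 := h5 ⟨hx, hx1⟩
    simp only [Set.mem_insert_iff, Set.mem_singleton_iff] at h6 ⊢
    tauto

/-- A nonsolvable group with fewer than five degrees. -/
theorem exists_three (hns : ¬ Group.IsSolvable G) (h : (charDegrees G).ncard < 5) :
    ∃ a b c, charDegrees G = {1, a, b, c} ∧ a ≠ 1 ∧ b ≠ 1 ∧ c ≠ 1 ∧ a ≠ b ∧ a ≠ c ∧ b ≠ c := by
  have hfin := H740.FiveBase.finite_degrees G
  by_cases h4 : (charDegrees G).ncard = 4
  · exact four _ hfin one_mem h4
  · exfalso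
    obtain ⟨m, n, hmn⟩ := le_three _ hfin one_mem (by omega)
    refine hns ⟨3, H597.ThreeDegD.derived_three (m := m) (n := n) fun χ hχ => ?_⟩
    have h5 : charDegree χ ∈ ({1, m, n} : Set ℕ) := hmn ⟨⟨χ, hχ⟩, rfl⟩
    simpa using h5

end Basic

section Sylow

variable {G : Type u} [Group G] [Finite G] {p : ℕ} [hp : Fact p.Prime]

/-- The inertial index from Sylow's theorem. -/
theorem relIndex_eq (P : Sylow p G) (hP : Nat.card P = p) {c e N : ℕ}
    (hC : Nat.card (Subgroup.centralizer ((P : Subgroup G) : Set G)) = p * c)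
    (hcard : Nat.card G = p * N) (hpN : ¬ p ∣ N) (he : e < p) (he' : (e * c) % p = N % p) :
    (Subgroup.centralizer ((P : Subgroup G) : Set G)).relIndex
      (Subgroup.normalizer ((P : Subgroup G) : Set G)) = e := by
  have hpp := hp.out
  set r := (Subgroup.centralizer ((P : Subgroup G) : Set G)).relIndex
      (Subgroup.normalizer ((P : Subgroup G) : Set G)) with hr
  have hcyc : IsCyclic P := isCyclic_of_prime_card hP
  obtain ⟨M, hM⟩ := Blocks.Knorr.exists_isPModular p
  obtain ⟨hrp, -⟩ := H638.FD.Blk.struct₀ hM P hcyc (k := 1) le_rfl (by rw [pow_one]; exact hP)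
    (e := r) rfl
  have hrlt : r < p := by
    have h1 := Nat.le_of_dvd (by have := hpp.two_le; omega) hrp
    have := hpp.two_le
    omega
  have hCN : Subgroup.centralizer ((P : Subgroup G) : Set G) ≤
      Subgroup.normalizer ((P : Subgroup G) : Set G) := Subgroup.centralizer_le_normalizer _
  have h1 : Nat.card (Subgroup.normalizer ((P : Subgroup G) : Set G)) = (p * c) * r := by
    rw [← hC, hr, mul_comm, ← Subgroup.relIndex_bot_left, ← Subgroup.relIndex_bot_left, mul_comm,
      Subgroup.relIndex_mul_relIndex _ _ _ bot_le hCN]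
  have h2 := Subgroup.card_mul_index (Subgroup.normalizer ((P : Subgroup G) : Set G))
  have h3 : (Subgroup.normalizer ((P : Subgroup G) : Set G)).index ≡ 1 [MOD p] := by
    have h4 := card_sylow_modEq_one p G
    rw [Sylow.card_eq_index_normalizer P] at h4
    exact h4
  set n := (Subgroup.normalizer ((P : Subgroup G) : Set G)).index with hn
  rw [h1, hcard] at h2
  have h4 : c * r * n = N := by
    have : p * (c * r * n) = p * N := by rw [← h2]; ring
    exact Nat.eq_of_mul_eq_mul_left hpp.pos this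
  have h5 : r * c ≡ e * c [MOD p] := by
    have h6 : c * r * n ≡ c * r * 1 [MOD p] := Nat.ModEq.mul_left _ h3
    rw [h4, mul_one, mul_comm c r] at h6
    exact h6.symm.trans (Nat.ModEq.symm he')
  have h6 : Nat.Coprime p c := by
    rw [hpp.coprime_iff_not_dvd]
    intro h
    apply hpN
    rw [← h4]
    exact Dvd.dvd.mul_right (Dvd.dvd.mul_right h _) _
  have h7 : r ≡ e [MOD p] := Nat.ModEq.cancel_right_of_coprime (by
    rw [h6]) h5
  have h8 := Nat.mod_eq_of_lt hrlt
  have h9 := Nat.mod_eq_of_lt he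
  have h10 : r % p = e % p := h7
  omega

/-- The equation in the principal block, one of the three degrees divisible by `p`. -/
theorem eqn (h2 : p ≠ 2) (P : Sylow p G) (hP : Nat.card P = p) {e : ℕ}
    (he : (Subgroup.centralizer ((P : Subgroup G) : Set G)).relIndex
      (Subgroup.normalizer ((P : Subgroup G) : Set G)) = e) (he1 : ¬ p ∣ e)
    (hN : ∀ N : Subgroup G, N.Normal → N.index ≠ p) {a b c : ℕ} (hcd : charDegrees G = {1, a, b, c})
    (ha : a ≠ 1) (hb : b ≠ 1) (hc : c ≠ 1) (hab : a ≠ b) (hac : a ≠ c) (hbc : b ≠ c) (hpc : p ∣ c) :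
    ∃ (n₁ na nb : ℕ) (sa sb s : ℤ) (f : ℕ), 1 ≤ n₁ ∧ n₁ ≤ (commutator G).index ∧ n₁ + na + nb = e ∧
      (sa = 1 ∨ sa = -1) ∧ (sb = 1 ∨ sb = -1) ∧ (s = 1 ∨ s = -1) ∧
      (na ≠ 0 → (p : ℤ) ∣ sa * a - 1) ∧ (nb ≠ 0 → (p : ℤ) ∣ sb * b - 1) ∧
      (f = 1 ∨ f = a ∨ f = b) ∧ (p : ℤ) ∣ f + e * s ∧
      n₁ + sa * na * a + sb * nb * b + s * f = 0 := by
  have hcyc : IsCyclic P := isCyclic_of_prime_card hP
  have hpp := hp.out
  obtain ⟨n₁, na, nb, nc, sa, sb, sc, s, f, h1, h3, h4, h5, h6, h7, h8, h9, h10, h11, h12, h13, h14⟩ :=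
    H638.FD.Blk.degs h2 P hcyc (k := 1) le_rfl (by rw [pow_one]; exact hP) he hN hcd.le ha hb hc
      hab hac hbc
  rw [pow_one] at h9 h10 h11 h13
  have hpc' : (p : ℤ) ∣ (c : ℤ) := Int.natCast_dvd_natCast.2 hpc
  have hp1 : ¬ (p : ℤ) ∣ 1 := by
    intro h
    have h' : p ∣ 1 := by exact_mod_cast h
    exact hpp.one_lt.ne' (Nat.dvd_one.1 h')
  have hnc : nc = 0 := by
    by_contra hne
    have h15 := h11 hne
    apply hp1
    have h16 : (p : ℤ) ∣ sc * c := Dvd.dvd.mul_left hpc' _
    have h17 := dvd_sub h16 h15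
    rwa [sub_sub_cancel] at h17
  subst hnc
  refine ⟨n₁, na, nb, sa, sb, s, f, h1, h3, by omega, h5, h6, h8, h9, h10, ?_, h13, ?_⟩
  · rcases h12 with h | h | h | h
    · exact Or.inl h
    · exact Or.inr (Or.inl h)
    · exact Or.inr (Or.inr h)
    · exfalso
      rw [h] at h13
      have h15 : (p : ℤ) ∣ e * s := (Int.dvd_add_right hpc').1 h13
      apply he1
      rcases h8 with h8 | h8
      · rw [h8, mul_one] at h15
        exact_mod_cast h15
      · rw [h8, mul_neg, mul_one, dvd_neg] at h15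
        exact_mod_cast h15
  · have h15 : (n₁ : ℤ) + sa * na * a + sb * nb * b + sc * (0 : ℕ) * c + s * f = 0 := h14
    rw [Nat.cast_zero, mul_zero, zero_mul, add_zero] at h15
    exact h15

end Sylow

section Check

/-- no `b` with `k b = T` -/
def okb (N a : ℕ) (T k : ℤ) : Bool :=
  if k = 0 then decide (T ≠ 0)
  else !(decide (T % k = 0) && decide (1 < T / k) && decide ((N : ℤ) % (T / k) = 0) &&
    decide (T / k ≠ a))

theorem okb_spec {N a : ℕ} {T k : ℤ} (h : okb N a T k = true) {b : ℕ} (hb : 1 < b) (hbN : b ∣ N)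
    (hba : b ≠ a) (hT : T = k * b) : False := by
  unfold okb at h
  by_cases hk : k = 0
  · rw [if_pos hk, decide_eq_true_eq] at h
    apply h
    rw [hT, hk, zero_mul]
  · rw [if_neg hk] at h
    have h1 : T % k = 0 := by rw [hT]; exact Int.mul_emod_right _ _
    have h2 : T / k = b := by rw [hT]; exact Int.mul_ediv_cancel_left _ hk
    have h3 : (1 : ℤ) < b := by exact_mod_cast hb
    have h4 : (N : ℤ) % b = 0 := by
      obtain ⟨t, rfl⟩ := hbN
      push_cast
      exact Int.mul_emod_right _ _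
    have h5 : (b : ℤ) ≠ a := by exact_mod_cast hba
    rw [h2] at h
    simp [h1, h3, h4, h5] at h

/-- the check for one choice of the numbers -/
def chk1 (N p e a n₁ na : ℕ) (sa sb s : ℤ) : Bool :=
  (decide (na ≠ 0) && decide ((sa * a - 1) % p ≠ 0)) ||
    ((decide (((1 : ℤ) + e * s) % p ≠ 0) ||
        okb N a (-(n₁ + sa * na * a + s)) (sb * ((e : ℤ) - n₁ - na))) &&
     (decide (((a : ℤ) + e * s) % p ≠ 0) ||
        okb N a (-(n₁ + sa * na * a + s * a)) (sb * ((e : ℤ) - n₁ - na))) &&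
     okb N a (-(n₁ + sa * na * a)) (sb * ((e : ℤ) - n₁ - na) + s))

theorem chk1_spec {N p e a n₁ na : ℕ} {sa sb s : ℤ} (h : chk1 N p e a n₁ na sa sb s = true)
    {nb b f : ℕ} (hn : n₁ + na + nb = e) (hna : na ≠ 0 → (p : ℤ) ∣ sa * a - 1)
    (hf : f = 1 ∨ f = a ∨ f = b) (hfe : (p : ℤ) ∣ f + e * s) (hb : 1 < b) (hbN : b ∣ N)
    (hba : b ≠ a) (heq : n₁ + sa * na * a + sb * nb * b + s * f = 0) : False := by
  unfold chk1 at h
  have hnb : (e : ℤ) - n₁ - na = nb := by
    rw [← hn]; push_cast; ring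
  rw [hnb] at h
  rcases Bool.or_eq_true_iff.1 h with h | h
  · rw [Bool.and_eq_true, decide_eq_true_eq, decide_eq_true_eq] at h
    exact h.2 (Int.emod_eq_zero_of_dvd (hna h.1))
  · rw [Bool.and_eq_true, Bool.and_eq_true] at h
    obtain ⟨⟨h1, h2⟩, h3⟩ := h
    rcases hf with rfl | rfl | rfl
    · rcases Bool.or_eq_true_iff.1 h1 with h1 | h1
      · rw [decide_eq_true_eq] at h1
        exact h1 (Int.emod_eq_zero_of_dvd (by exact_mod_cast hfe))
      · refine okb_spec h1 hb hbN hba ?_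
        push_cast at heq
        linarith
    · rcases Bool.or_eq_true_iff.1 h2 with h2 | h2
      · rw [decide_eq_true_eq] at h2
        exact h2 (Int.emod_eq_zero_of_dvd hfe)
      · refine okb_spec h2 hb hbN hba ?_
        linarith
    · refine okb_spec h3 hb hbN hba ?_
      linarith

/-- the check -/
def chk (N p e a m : ℕ) : Bool :=
  (List.range (m + 1)).all fun n₁ => decide (n₁ = 0) || (List.range (e + 1)).all fun na =>
    decide (e < n₁ + na) ||
    ([1, -1] : List ℤ).all fun sa => ([1, -1] : List ℤ).all fun sb => ([1, -1] : List ℤ).all fun s =>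
      chk1 N p e a n₁ na sa sb s

theorem chk_spec {N p e a m : ℕ} (h : chk N p e a m = true) {n₁ na nb : ℕ} {sa sb s : ℤ} {b f : ℕ}
    (h1 : 1 ≤ n₁) (h1m : n₁ ≤ m) (hn : n₁ + na + nb = e) (hsa : sa = 1 ∨ sa = -1)
    (hsb : sb = 1 ∨ sb = -1) (hs : s = 1 ∨ s = -1) (hna : na ≠ 0 → (p : ℤ) ∣ sa * a - 1)
    (hf : f = 1 ∨ f = a ∨ f = b) (hfe : (p : ℤ) ∣ f + e * s) (hb : 1 < b) (hbN : b ∣ N)
    (hba : b ≠ a) (heq : n₁ + sa * na * a + sb * nb * b + s * f = 0) : False := by
  unfold chk at h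
  rw [List.all_eq_true] at h
  have h2 := h n₁ (List.mem_range.2 (by omega))
  rcases Bool.or_eq_true_iff.1 h2 with h2 | h2
  · rw [decide_eq_true_eq] at h2
    omega
  · rw [List.all_eq_true] at h2
    have h3 := h2 na (List.mem_range.2 (by omega))
    rcases Bool.or_eq_true_iff.1 h3 with h3 | h3
    · rw [decide_eq_true_eq] at h3
      omega
    · rw [List.all_eq_true] at h3
      have h4 := h3 sa (by rcases hsa with rfl | rfl <;> simp)
      rw [List.all_eq_true] at h4
      have h5 := h4 sb (by rcases hsb with rfl | rfl <;> simp)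
      rw [List.all_eq_true] at h5
      have h6 := h5 s (by rcases hs with rfl | rfl <;> simp)
      exact chk1_spec h6 hn hna hf hfe hb hbN hba heq

end Check

section Almost

variable {G : Type u} [Group G]

/-- facts about an almost simple group -/
theorem not_comm (M : Subgroup G) (hc : Subgroup.centralizer (M : Set G) = ⊥) [IsSimpleGroup M] :
    ¬ ∀ x y : M, x * y = y * x := by
  intro h
  have h1 : M ≤ Subgroup.centralizer (M : Set G) := by
    intro x hx y hy
    exact congrArg Subtype.val (h ⟨y, hy⟩ ⟨x, hx⟩)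
  rw [hc, le_bot_iff] at h1
  have : Nontrivial M := inferInstance
  exact (Subgroup.nontrivial_iff_ne_bot M).1 this h1

theorem not_solvable (M : Subgroup G) (hc : Subgroup.centralizer (M : Set G) = ⊥) [IsSimpleGroup M] :
    ¬ Group.IsSolvable G := by
  intro h
  have h1 : Group.IsSolvable M := inferInstance
  exact not_comm M hc (IsSimpleGroup.comm_iff_isSolvable.2 h1)

theorem le_or_inf_bot (M : Subgroup G) [IsSimpleGroup M] (N : Subgroup G) (hN : N.Normal) :
    M ≤ N ∨ M ⊓ N = ⊥ := by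
  have h1 : (N.subgroupOf M).Normal := inferInstance
  rcases h1.eq_bot_or_eq_top with h | h
  · right
    rw [Subgroup.subgroupOf_eq_bot] at h
    rw [inf_comm]
    exact h.eq_bot
  · left
    exact Subgroup.subgroupOf_eq_top.1 h

theorem le_of_ne_bot (M : Subgroup G) [hM : M.Normal] (hc : Subgroup.centralizer (M : Set G) = ⊥)
    [IsSimpleGroup M] (N : Subgroup G) (hN : N.Normal) (hN1 : N ≠ ⊥) : M ≤ N := by
  rcases le_or_inf_bot M N hN with h | h
  · exact h
  · exfalso
    apply hN1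
    rw [eq_bot_iff, ← hc]
    intro x hx
    rw [Subgroup.mem_centralizer_iff]
    intro y hy
    have h1 : y * x * y⁻¹ * x⁻¹ ∈ M ⊓ N := by
      refine ⟨?_, ?_⟩
      · have h2 : x * y⁻¹ * x⁻¹ ∈ M := hM.conj_mem _ (M.inv_mem hy) _
        have h3 : y * x * y⁻¹ * x⁻¹ = y * (x * y⁻¹ * x⁻¹) := by group
        rw [h3]
        exact M.mul_mem hy h2
      · exact N.mul_mem (hN.conj_mem _ hx _) (N.inv_mem hx)
    rw [h, Subgroup.mem_bot, mul_inv_eq_one, mul_inv_eq_iff_eq_mul] at h1
    exact h1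

theorem index_ne (M : Subgroup G) [M.Normal] (hc : Subgroup.centralizer (M : Set G) = ⊥)
    [IsSimpleGroup M] (hidx : M.index ∣ 2) {p : ℕ} (hp : p.Prime) (h2 : p ≠ 2) (N : Subgroup G)
    (hN : N.Normal) : N.index ≠ p := by
  intro h
  by_cases hN1 : N = ⊥
  · rw [hN1, Subgroup.index_bot] at h
    have : Fact p.Prime := ⟨hp⟩
    have h1 : IsCyclic G := isCyclic_of_prime_card h
    have h3 : IsMulCommutative G := IsCyclic.isMulCommutative
    exact not_comm M hc fun x y => Subtype.ext (h3.is_comm.comm _ _)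
  · have h1 := le_of_ne_bot M hc N hN hN1
    have h3 := (Subgroup.index_dvd_of_le h1).trans hidx
    rw [h] at h3
    exact h2 ((Nat.prime_dvd_prime_iff_eq hp Nat.prime_two).1 h3)

theorem index_commutator (M : Subgroup G) [M.Normal] [IsSimpleGroup M] [Finite G]
    (hc : Subgroup.centralizer (M : Set G) = ⊥) :
    (commutator G).index ≤ M.index := by
  have h1 : M ≤ commutator G := by
    refine le_of_ne_bot M hc _ inferInstance ?_
    intro h
    rw [commutator_def, Subgroup.commutator_eq_bot_iff_le_centralizer] at h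
    apply not_comm M hc
    intro x y
    have h3 := Subgroup.mem_centralizer_iff.1 (h (Subgroup.mem_top (x : G))) (y : G)
      (Subgroup.mem_top _)
    exact Subtype.ext h3.symm
  exact Nat.le_of_dvd (Nat.pos_of_ne_zero Subgroup.index_ne_zero_of_finite) (Subgroup.index_dvd_of_le h1)

end Almost

end Cfsg.Agent.H603.FD.Kill
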