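import Cfsg.Agent.H603.FD.Kill

/-!
# Five character degrees from one prime: the two main theorems (helper603)

* `five_of_kill` : one degree of the socle prime to `p` is known;
* `five_of_inner` : `G = M`, `1 < e < p - 1`.
-/

set_option autoImplicit false

open Cfsg

namespace Cfsg.Agent.H603.FD.Kill

open Cfsg.Agent.H33

universe u

variable {G : Type u} [Group G] [Finite G] {p : ℕ} [hp : Fact p.Prime]

omit [Finite G] hp in
theorem centralizer_zpowers (x : G) :
    Subgroup.centralizer ((Subgroup.zpowers x : Subgroup G) : Set G) = Subgroup.centralizer {x} := by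
  ext y
  rw [Subgroup.mem_centralizer_iff, Subgroup.mem_centralizer_singleton_iff]
  constructor
  · intro h
    exact (h x (Subgroup.mem_zpowers x)).symm
  · rintro h z ⟨i, rfl⟩
    have h1 : Commute y x := h
    exact (h1.zpow_right i).symm

omit [Finite G] in
theorem card_cent (M : Subgroup G) [M.Normal] (P : Subgroup G) (hP : Nat.card P = p)
    (hPM : P ≤ M) (hCM : ∀ x : M, orderOf x = p → Nat.card (Subgroup.centralizer ({x} : Set M)) = p) :
    ∃ c, c ∣ M.index ∧ Nat.card (Subgroup.centralizer (P : Set G)) = p * c := by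
  have hpp := hp.out
  have hcyc : IsCyclic P := isCyclic_of_prime_card hP
  obtain ⟨g, hg⟩ := hcyc.exists_generator
  have hx : P = Subgroup.zpowers (g : G) := by
    apply le_antisymm
    · intro y hy
      obtain ⟨i, hi⟩ := Subgroup.mem_zpowers_iff.1 (hg ⟨y, hy⟩)
      exact ⟨i, congrArg Subtype.val hi⟩
    · rw [Subgroup.zpowers_le]
      exact g.2
  set x : G := (g : G) with hxg
  have hxM : x ∈ M := hPM g.2
  have hox : orderOf x = p := by
    rw [← Nat.card_zpowers, ← hx]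
    exact hP
  have h1 : Nat.card (Subgroup.centralizer ({⟨x, hxM⟩} : Set M)) = p :=
    hCM ⟨x, hxM⟩ (by rw [Subgroup.orderOf_mk]; exact hox)
  set C := Subgroup.centralizer (P : Set G) with hC
  have hC' : C = Subgroup.centralizer ({x} : Set G) := by
    rw [hC, hx, centralizer_zpowers]
  refine ⟨M.relIndex C, Subgroup.relIndex_dvd_index_of_normal M C, ?_⟩
  have h2 : Nat.card (M.subgroupOf C) = p := by
    rw [← h1]
    refine Nat.card_congr
      { toFun := fun y => ⟨⟨(y : C), y.2⟩, ?_⟩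
        invFun := fun y => ⟨⟨((y : M) : G), ?_⟩, (y : M).2⟩
        left_inv := fun y => rfl
        right_inv := fun y => rfl }
    · have h3 : ((y : C) : G) ∈ Subgroup.centralizer ({x} : Set G) := hC' ▸ (y : C).2
      rw [Subgroup.mem_centralizer_singleton_iff] at h3 ⊢
      exact Subtype.ext h3
    · have h3 := y.2
      rw [Subgroup.mem_centralizer_singleton_iff] at h3
      rw [hC', Subgroup.mem_centralizer_singleton_iff]
      exact congrArg Subtype.val h3
  rw [← h2]
  exact (Subgroup.card_mul_index (M.subgroupOf C)).symm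

/-- `e` and the number `c` -/
theorem exists_e (M : Subgroup G) [M.Normal] (hidx : M.index ∣ 2) (h2 : p ≠ 2) {N0 : ℕ}
    (hcard : Nat.card M = p * N0) (hpN : ¬ p ∣ N0)
    (hCM : ∀ x : M, orderOf x = p → Nat.card (Subgroup.centralizer ({x} : Set M)) = p) :
    ∃ (P : Sylow p G) (c : ℕ), Nat.card P = p ∧ c ∣ M.index ∧
      Nat.card (Subgroup.centralizer ((P : Subgroup G) : Set G)) = p * c ∧
      Nat.card G = p * (N0 * M.index) ∧ ¬ p ∣ N0 * M.index ∧ (P : Subgroup G) ≤ M := by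
  have hpp := hp.out
  obtain ⟨P⟩ : Nonempty (Sylow p G) := inferInstance
  have h1 : Nat.card G = p * (N0 * M.index) := by
    rw [← Subgroup.card_mul_index M, hcard, mul_assoc]
  have h3 : ¬ p ∣ M.index := fun h => h2 ((Nat.prime_dvd_prime_iff_eq hpp Nat.prime_two).1 (h.trans hidx))
  have h4 : ¬ p ∣ N0 * M.index := by
    intro h
    rcases hpp.dvd_mul.1 h with h | h
    · exact hpN h
    · exact h3 h
  have hP : Nat.card P = p := by
    rw [P.card_eq_multiplicity, h1, Nat.factorization_mul hpp.ne_zero (by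
      intro h; rw [h] at h4; exact h4 (dvd_zero _)), Finsupp.add_apply, hpp.factorization_self,
      Nat.factorization_eq_zero_of_not_dvd h4, pow_one]
  have hPM : (P : Subgroup G) ≤ M := by
    intro y hy
    rw [← QuotientGroup.eq_one_iff]
    have h5 : orderOf (y : G ⧸ M) ∣ p := by
      have h6 : orderOf y ∣ p := by
        rw [← hP]
        have h7 := orderOf_dvd_natCard (⟨y, hy⟩ : P)
        rwa [Subgroup.orderOf_mk] at h7
      exact (orderOf_map_dvd (QuotientGroup.mk' M) y).trans h6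
    have h6 : orderOf (y : G ⧸ M) ∣ M.index := by
      rw [Subgroup.index]
      exact orderOf_dvd_natCard _
    rcases (Nat.dvd_prime hpp).1 h5 with h | h
    · exact orderOf_eq_one_iff.1 h
    · rw [h] at h6
      exact absurd h6 h3
  obtain ⟨c, hc, hc'⟩ := card_cent M (P : Subgroup G) hP hPM hCM
  exact ⟨P, c, hP, hc, hc', h1, h4, hPM⟩

theorem reorder {S : Set ℕ} {a b c u v : ℕ} (hS : S = {1, a, b, c}) (ha : a ≠ 1) (hb : b ≠ 1) (hc : c ≠ 1)
    (hab : a ≠ b) (hac : a ≠ c) (hbc : b ≠ c) (hu : u ∈ S) (hv : v ∈ S) (hu1 : u ≠ 1) (hv1 : v ≠ 1)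
    (huv : u ≠ v) : ∃ w, S = {1, u, w, v} ∧ w ≠ 1 ∧ u ≠ w ∧ w ≠ v := by
  subst hS
  simp only [Set.mem_insert_iff, Set.mem_singleton_iff] at hu hv
  rcases hu with rfl | rfl | rfl | rfl
  · exact absurd rfl hu1
  · rcases hv with rfl | rfl | rfl | rfl
    · exact absurd rfl hv1
    · exact absurd rfl huv
    · exact ⟨c, by rw [Set.pair_comm v c], hc, hac, hbc.symm⟩
    · exact ⟨b, rfl, hb, hab, hbc⟩
  · rcases hv with rfl | rfl | rfl | rfl
    · exact absurd rfl hv1
    · exact ⟨c, by ext z; simp only [Set.mem_insert_iff, Set.mem_singleton_iff]; tauto, hc, hbc, hac.symm⟩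
    · exact absurd rfl huv
    · exact ⟨a, by ext z; simp only [Set.mem_insert_iff, Set.mem_singleton_iff]; tauto, ha, hab.symm, hac⟩
  · rcases hv with rfl | rfl | rfl | rfl
    · exact absurd rfl hv1
    · exact ⟨b, by ext z; simp only [Set.mem_insert_iff, Set.mem_singleton_iff]; tauto, hb, hbc.symm, hab.symm⟩
    · exact ⟨a, by ext z; simp only [Set.mem_insert_iff, Set.mem_singleton_iff]; tauto, ha, hac.symm, hab⟩
    · exact absurd rfl huv

/-- **Main theorem**: a degree prime to `p` of the socle is known. -/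
theorem five_of_kill (M : Subgroup G) (hM : M.Normal) (hc : Subgroup.centralizer (M : Set G) = ⊥)
    (hs : IsSimpleGroup M) (hidx : M.index ∣ 2) (h2 : p ≠ 2) {N0 e0 e1 D0 : ℕ}
    (hcard : Nat.card M = p * N0) (hpN : ¬ p ∣ N0) (he0 : e0 < p) (he0' : e0 % p = N0 % p)
    (he1 : e1 < p) (he1' : e1 % p = N0 * 2 % p) (hep : ¬ p ∣ e0) (hep' : ¬ p ∣ e1)
    (hCM : ∀ x : M, orderOf x = p → Nat.card (Subgroup.centralizer ({x} : Set M)) = p)
    (hIM : IM p M) (hD : D0 ∈ charDegrees M) (hD1 : 1 < D0) (hDp : ¬ p ∣ D0)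
    (k1 : chk (p * N0) p e0 D0 1 = true)
    (k2 : chk (p * (N0 * 2)) p e0 D0 2 = true) (k3 : chk (p * (N0 * 2)) p e0 (D0 * 2) 2 = true)
    (k4 : chk (p * (N0 * 2)) p e1 D0 2 = true) (k5 : chk (p * (N0 * 2)) p e1 (D0 * 2) 2 = true) :
    5 ≤ (charDegrees G).ncard := by
  by_contra hcon
  rw [not_le] at hcon
  have hpp := hp.out
  obtain ⟨a, b, c, hcd, ha, hb, hc', hab, hac, hbc⟩ := exists_three (not_solvable M hc) hcon
  obtain ⟨x, hx, hDx⟩ := H740.FiveBase.exists_mul M hD
  -- some degree is divisible by `p`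
  obtain ⟨χ, hχ⟩ := IM.of_normal M hIM
  have hpx : ¬ p ∣ D0 * x := by
    intro h
    rcases hpp.dvd_mul.1 h with h | h
    · exact hDp h
    · exact h2 ((Nat.prime_dvd_prime_iff_eq hpp Nat.prime_two).1 ((h.trans hx).trans hidx))
  have hx0 : 0 < x := Nat.pos_of_dvd_of_pos (hx.trans hidx) (by norm_num)
  have h5 : D0 * x ≠ 1 := by
    intro h
    have := Nat.eq_one_of_mul_eq_one_right h
    omega
  have h6 : charDegree (χ : G → ℂ) ≠ 1 := by
    intro h; rw [h] at hχ; exact hpp.one_lt.ne' (Nat.dvd_one.1 hχ)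
  have h7 : D0 * x ≠ charDegree (χ : G → ℂ) := by
    intro h; rw [← h] at hχ; exact hpx hχ
  obtain ⟨b', hcd', hb', h8, h9⟩ := reorder hcd ha hb hc' hab hac hbc hDx ⟨χ, rfl⟩ h5 h6 h7
  generalize charDegree (χ : G → ℂ) = c' at *
  have hb'm : b' ∈ charDegrees G := by rw [hcd']; simp
  have hb'1 : 1 < b' := by
    have := pos_of_mem hb'm
    omega
  obtain ⟨P, t, hP, ht, hcC, hcG, hpG, -⟩ := exists_e M hidx h2 hcard hpN hCM
  have hb'N := dvd_card hb'm
  have hind : M.index = 1 ∨ M.index = 2 := (Nat.dvd_prime Nat.prime_two).1 hidx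
  have hfin : ∀ e : ℕ, ¬ p ∣ e → e < p → (e * t) % p = (N0 * M.index) % p →
      chk (p * (N0 * M.index)) p e (D0 * x) M.index = true → False := by
    intro e he1 he2 he3 hk
    have he := relIndex_eq P hP hcC hcG hpG he2 he3
    obtain ⟨n₁, na, nb, sa, sb, s, f, q1, q2, q3, q4, q5, q6, q7, q8, q9, q10, q11⟩ :=
      eqn h2 P hP he he1 (fun N hN => index_ne M hc hidx hpp h2 N hN) hcd' h5 hb' h6 h8 h7 h9 hχ
    refine chk_spec hk q1 (q2.trans (index_commutator M hc)) q3 q4 q5 q6 q7 q9 q10 hb'1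
      (by rw [← hcG]; exact hb'N) h8.symm q11
  rcases hind with hi | hi
  · rw [hi] at hfin ht hx
    obtain rfl := Nat.dvd_one.1 ht
    obtain rfl := Nat.dvd_one.1 hx
    refine hfin e0 hep he0 (by rw [mul_one, mul_one]; exact he0') ?_
    rw [mul_one, mul_one]
    exact k1
  · rw [hi] at hfin ht hx
    rcases (Nat.dvd_prime Nat.prime_two).1 ht with rfl | rfl
    · refine hfin e1 hep' he1 (by rw [mul_one]; exact he1') ?_
      rcases (Nat.dvd_prime Nat.prime_two).1 hx with rfl | rfl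
      · rw [mul_one]; exact k4
      · exact k5
    · refine hfin e0 hep he0 ?_ ?_
      · exact Nat.ModEq.mul_right 2 he0'
      · rcases (Nat.dvd_prime Nat.prime_two).1 hx with rfl | rfl
        · rw [mul_one]; exact k2
        · exact k3

end Cfsg.Agent.H603.FD.Kill

namespace Cfsg.Agent.H603.FD.Kill

open Cfsg.Agent.H33

universe v

theorem card_centralizer_equiv {K : Type*} {L : Type*} [Group K] [Group L] (e : K ≃* L) (x : K) :
    Nat.card (Subgroup.centralizer ({x} : Set K)) = Nat.card (Subgroup.centralizer ({e x} : Set L)) := by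
  refine Nat.card_congr
    { toFun := fun y => ⟨e y, ?_⟩
      invFun := fun y => ⟨e.symm y, ?_⟩
      left_inv := fun y => Subtype.ext (e.symm_apply_apply _)
      right_inv := fun y => Subtype.ext (e.apply_symm_apply _) }
  · have h := y.2
    rw [Subgroup.mem_centralizer_singleton_iff] at h ⊢
    rw [← map_mul, ← map_mul, h]
  · have h := y.2
    rw [Subgroup.mem_centralizer_singleton_iff] at h ⊢
    apply e.injective
    rw [map_mul, map_mul, e.apply_symm_apply, h]

/-- `IM` by counting element orders -/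
theorem im_of_orders {K : Type*} [Group K] [Finite K] {p : ℕ} [hp : Fact p.Prime] {N0 e0 : ℕ}
    (hcard : Nat.card K = p * N0) (hpN : ¬ p ∣ N0) (he0 : e0 < p) (he0' : e0 % p = N0 % p)
    (hCM : ∀ x : K, orderOf x = p → Nat.card (Subgroup.centralizer ({x} : Set K)) = p)
    (S : Finset ℕ) (hS : ∀ n ∈ S, ¬ p ∣ n ∧ ∃ g : K, orderOf g = n) (hlt : e0 < S.card) : IM p K := by
  have hpp := hp.out
  obtain ⟨P⟩ : Nonempty (Sylow p K) := inferInstance
  have hP : Nat.card P = p := by
    rw [P.card_eq_multiplicity, hcard, Nat.factorization_mul hpp.ne_zero (by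
      intro h; rw [h] at hpN; exact hpN (dvd_zero _)), Finsupp.add_apply, hpp.factorization_self,
      Nat.factorization_eq_zero_of_not_dvd hpN, pow_one]
  have hcyc : IsCyclic P := isCyclic_of_prime_card hP
  obtain ⟨g, hg⟩ := hcyc.exists_generator
  have hx : (P : Subgroup K) = Subgroup.zpowers (g : K) := by
    apply le_antisymm
    · intro y hy
      obtain ⟨i, hi⟩ := Subgroup.mem_zpowers_iff.1 (hg ⟨y, hy⟩)
      exact ⟨i, congrArg Subtype.val hi⟩
    · rw [Subgroup.zpowers_le]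
      exact g.2
  have hox : orderOf (g : K) = p := by
    rw [← Nat.card_zpowers, ← hx]
    exact hP
  have hC : Nat.card (Subgroup.centralizer ((P : Subgroup K) : Set K)) = p := by
    rw [hx, centralizer_zpowers, hCM _ hox]
  have he := relIndex_eq P hP (c := 1) (by rw [hC, mul_one]) hcard hpN he0 (by rw [mul_one]; exact he0')
  refine H593.IMCyc.IM_of_orders_self P hcyc (by rw [hcard]; exact dvd_mul_right _ _) ?_ S hS ?_
  · exact IsPGroup.of_card (n := 1) (by rw [hC, pow_one])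
  · rw [he]; exact hlt

variable {G : Type v} [Group G] [Finite G] {p : ℕ} [hp : Fact p.Prime]

omit hp in
theorem eqn_small {e n₁ na nb a b f : ℕ} {sa sb s : ℤ} (he : 2 ≤ e) (hep : e + 1 < p)
    (hn1 : n₁ = 1) (hn : n₁ + na + nb = e) (ha : 1 < a) (hb : 1 < b)
    (hsa : sa = 1 ∨ sa = -1) (hsb : sb = 1 ∨ sb = -1) (hs : s = 1 ∨ s = -1)
    (hna : na ≠ 0 → (p : ℤ) ∣ sa * a - 1) (hnb : nb ≠ 0 → (p : ℤ) ∣ sb * b - 1)
    (hf : f = 1 ∨ f = a) (hfe : (p : ℤ) ∣ f + e * s)
    (heq : n₁ + sa * na * a + sb * nb * b + s * f = 0) :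
    ((p : ℤ) ∣ b - 1 ∧ (a : ℤ) = (e - 1) * b + 1) ∨ ((p : ℤ) ∣ b + 1 ∧ (a : ℤ) = (e - 1) * b - 1) := by
  subst hn1
  have key : ∀ t : ℤ, (t = e + 1 ∨ t = e - 1 ∨ t = -(e + 1) ∨ t = -(e - 1)) → ¬ (p : ℤ) ∣ t := by
    intro t ht h
    have h1 : t ≠ 0 := by omega
    have h2 := Int.le_of_dvd (by positivity : (0 : ℤ) < |t|) ((dvd_abs _ _).2 h)
    have h3 : |t| ≤ e + 1 := by
      rw [abs_le]; omega
    omega
  rcases hf with rfl | rfl
  · exfalso
    push_cast at hfe
    rcases hs with rfl | rfl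
    · exact key _ (Or.inl (by ring)) hfe
    · exact key _ (Or.inr (Or.inr (Or.inr rfl))) (by
        have h1 : -((e : ℤ) - 1) = 1 + e * -1 := by ring
        rw [h1]; exact hfe)
  · have hna0 : na = 0 := by
      by_contra h
      have h1 := hna h
      have h2 : (p : ℤ) ∣ sa * (f + e * s) - (sa * f - 1) := dvd_sub (Dvd.dvd.mul_left hfe _) h1
      refine key _ ?_ h2
      rcases hsa with rfl | rfl <;> rcases hs with rfl | rfl
      · left; ring
      · right; right; right; ring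
      · right; right; right; ring
      · left; ring
    subst hna0
    have hnb0 : nb ≠ 0 := by omega
    have h1 := hnb hnb0
    have h2 : (nb : ℤ) = e - 1 := by omega
    have h3 : (1 : ℤ) ≤ e - 1 := by omega
    have hb' : (1 : ℤ) < b := by exact_mod_cast hb
    have ha' : (1 : ℤ) < f := by exact_mod_cast ha
    have h4 : (0 : ℤ) < (e - 1) * b := by nlinarith
    have heq' : 1 + sb * (e - 1) * b + s * f = 0 := by
      rw [← h2]
      push_cast at heq
      linarith
    rcases hsb with rfl | rfl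
    · rcases hs with rfl | rfl
      · exfalso; nlinarith
      · left
        refine ⟨by simpa using h1, by linarith⟩
    · rcases hs with rfl | rfl
      · right
        refine ⟨?_, by linarith⟩
        rw [← dvd_neg]
        have h5 : -((b : ℤ) + 1) = -1 * b - 1 := by ring
        rw [h5]; exact h1
      · exfalso; nlinarith

/-- `G = M`, `1 < e < p - 1` -/
theorem inner (M : Subgroup G) (hM : M.Normal) (hc : Subgroup.centralizer (M : Set G) = ⊥)
    (hs : IsSimpleGroup M) (hidx : M.index = 1) (h2 : p ≠ 2) {N0 e : ℕ}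
    (hcard : Nat.card M = p * N0) (hpN : ¬ p ∣ N0) (he : e + 1 < p) (he' : e % p = N0 % p) (he2 : 2 ≤ e)
    (hCM : ∀ x : M, orderOf x = p → Nat.card (Subgroup.centralizer ({x} : Set M)) = p)
    (hIM : IM p M) (hcon : (charDegrees G).ncard < 5) :
    ∃ u v : ℕ, 1 < u ∧ u ∣ p * N0 ∧ v ∣ p * N0 ∧
      (((p : ℤ) ∣ u - 1 ∧ (v : ℤ) = (e - 1) * u + 1) ∨ ((p : ℤ) ∣ u + 1 ∧ (v : ℤ) = (e - 1) * u - 1)) := by
  have hpp := hp.out
  obtain ⟨a, b, c, hcd, ha, hb, hc', hab, hac, hbc⟩ := exists_three (not_solvable M hc) hcon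
  obtain ⟨χ, hχ⟩ := IM.of_normal M hIM
  have h6 : charDegree (χ : G → ℂ) ≠ 1 := by
    intro h; rw [h] at hχ; exact hpp.one_lt.ne' (Nat.dvd_one.1 hχ)
  have key : ∃ u v w, charDegrees G = {1, u, v, w} ∧ u ≠ 1 ∧ v ≠ 1 ∧ w ≠ 1 ∧ u ≠ v ∧ u ≠ w ∧ v ≠ w ∧ p ∣ w := by
    have h4 : charDegree (χ : G → ℂ) ∈ charDegrees G := ⟨χ, rfl⟩
    have h4' := h4
    rw [hcd] at h4'
    simp only [Set.mem_insert_iff, Set.mem_singleton_iff] at h4'
    rcases h4' with h | h | h | h
    · exact absurd h h6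
    · obtain ⟨w, hw, hw1, hw2, hw3⟩ := reorder hcd ha hb hc' hab hac hbc (u := b) (by rw [hcd]; simp) h4
        hb h6 (h ▸ hab.symm)
      exact ⟨b, w, _, hw, hb, hw1, h6, hw2, h ▸ hab.symm, hw3, hχ⟩
    · obtain ⟨w, hw, hw1, hw2, hw3⟩ := reorder hcd ha hb hc' hab hac hbc (u := a) (by rw [hcd]; simp) h4
        ha h6 (h ▸ hab)
      exact ⟨a, w, _, hw, ha, hw1, h6, hw2, h ▸ hab, hw3, hχ⟩
    · obtain ⟨w, hw, hw1, hw2, hw3⟩ := reorder hcd ha hb hc' hab hac hbc (u := a) (by rw [hcd]; simp) h4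
        ha h6 (h ▸ hac)
      exact ⟨a, w, _, hw, ha, hw1, h6, hw2, h ▸ hac, hw3, hχ⟩
  obtain ⟨a, b, c, hcd, ha, hb, hc', hab, hac, hbc, hpc⟩ := key
  have ham : a ∈ charDegrees G := by rw [hcd]; simp
  have hbm : b ∈ charDegrees G := by rw [hcd]; simp
  have ha1 : 1 < a := by have := pos_of_mem ham; omega
  have hb1 : 1 < b := by have := pos_of_mem hbm; omega
  obtain ⟨P, t, hP, ht, hcC, hcG, hpG, -⟩ := exists_e M (hidx ▸ one_dvd 2) h2 hcard hpN hCM
  rw [hidx, mul_one] at hcG hpG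
  rw [hidx] at ht
  obtain rfl := Nat.dvd_one.1 ht
  have her := relIndex_eq P hP (e := e) hcC hcG hpG (by omega) (by rw [mul_one]; exact he')
  have hpe : ¬ p ∣ e := fun h => by
    have := Nat.le_of_dvd (by omega) h
    omega
  obtain ⟨n₁, na, nb, sa, sb, s, f, q1, q2, q3, q4, q5, q6, q7, q8, q9, q10, q11⟩ :=
    eqn h2 P hP her hpe (fun N hN => index_ne M hc (hidx ▸ one_dvd 2) hpp h2 N hN) hcd ha hb hc' hab hac hbc hpc
  have q2' := q2.trans (index_commutator M hc)
  have hn1 : n₁ = 1 := by omega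
  have haN := dvd_card ham
  have hbN := dvd_card hbm
  rw [hcG] at haN hbN
  rcases q9 with h | h | h
  · have := eqn_small he2 he hn1 q3 ha1 hb1 q4 q5 q6 q7 q8 (Or.inl h) q10 q11
    exact ⟨b, a, hb1, hbN, haN, this⟩
  · have := eqn_small he2 he hn1 q3 ha1 hb1 q4 q5 q6 q7 q8 (Or.inr h) q10 q11
    exact ⟨b, a, hb1, hbN, haN, this⟩
  · have := eqn_small he2 he hn1 (by omega : n₁ + nb + na = e) hb1 ha1 q5 q4 q6 q8 q7 (Or.inr h) q10
      (by linarith)
    exact ⟨a, b, ha1, haN, hbN, this⟩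

end Cfsg.Agent.H603.FD.Kill
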