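import Cfsg.Agent.H603.FD.KillMain
import Cfsg.Agent.H693.FiveL3
import Cfsg.Agent.H163.Steinberg
import Cfsg.Agent.CpAut.SmallP.PslFour
import Cfsg.Agent.SporadicA.FieldFour
import Cfsg.Agent.H740.FiveBase

/-!
# Almost simple groups with socle `PSL₃(4)`: at least five character degrees (helper603)

The degrees 20, 64 (Steinberg), 45 (the exceptional characters of the principal 7-block) and 63 (principal 5-block).
-/

set_option autoImplicit false

open Cfsg

namespace Cfsg.Agent.H603.FD.LThree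

open Subgroup Cfsg.Agent.H603.FD.Kill

universe u

section Princ

variable {G : Type u} [Group G] [Finite G] {p : ℕ} [hp : Fact p.Prime]

/-- Self-centralizing Sylow subgroup of order `p`: the principal block consists of all characters of degree
prime to `p`. -/
theorem princ (P : Sylow p G) (hP : Nat.card P = p)
    (hC : Subgroup.centralizer ((P : Subgroup G) : Set G) = P) {e : ℕ}
    (he : (Subgroup.centralizer ((P : Subgroup G) : Set G)).relIndex
      (Subgroup.normalizer ((P : Subgroup G) : Set G)) = e)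
    (hN : ∀ N : Subgroup G, N.Normal → N.index ≠ p) :
    ∃ (X Y : Finset (IrrCharacter G)) (δ : IrrCharacter G → ℤ) (δ₀ : ℤ),
      (∀ χ : IrrCharacter G, ¬ p ∣ charDegree (χ : G → ℂ) → χ ∈ X ∨ χ ∈ Y) ∧ X.card = e ∧
      Y.card = (p - 1) / e ∧ Characters.CCValues.one G ∈ X ∧ δ (Characters.CCValues.one G) = 1 ∧
      (∀ χ ∈ X, δ χ = 1 ∨ δ χ = -1) ∧ (δ₀ = 1 ∨ δ₀ = -1) ∧
      (∀ χ ∈ X, (p : ℤ) ∣ δ χ * (charDegree (χ : G → ℂ) : ℤ) - 1) ∧
      (∀ ψ ∈ Y, (p : ℤ) ∣ (charDegree (ψ : G → ℂ) : ℤ) + e * δ₀) ∧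
      (∀ ψ ∈ Y, δ₀ * (charDegree (ψ : G → ℂ) : ℤ) + ∑ χ ∈ X, δ χ * (charDegree (χ : G → ℂ) : ℤ) = 0) := by
  classical
  have hpp := hp.out
  have hfi : Finite (IrrCharacter G) := Characters.Core.finite_irr
  have : Fintype (IrrCharacter G) := Fintype.ofFinite _
  have hcyc : IsCyclic P := isCyclic_of_prime_card hP
  obtain ⟨M, hM⟩ := Blocks.Knorr.exists_isPModular p
  obtain ⟨hep, X, Y, δ, δ₀, hB, hd, hX, hY, h1X, hδ1, hδ, hδ₀, hcX, hcY, hsum⟩ :=
    H638.FD.Blk.struct hM P hcyc (k := 1) le_rfl (by rw [pow_one]; exact hP) he hN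
  rw [pow_one] at hY hcX hcY
  have hdiv : p ∣ Nat.card G := by
    rw [← hP]; exact Subgroup.card_subgroup_dvd_card (P : Subgroup G)
  have hsq : ¬ p ^ 2 ∣ Nat.card G := by
    intro h
    have h1 := P.card_eq_multiplicity
    rw [hP] at h1
    have h2 := (hpp.pow_dvd_iff_le_factorization Nat.card_pos.ne').1 h
    have h3 : p ^ 2 ≤ p ^ (Nat.card G).factorization p := Nat.pow_le_pow_right hpp.pos h2
    rw [← h1] at h3
    nlinarith [hpp.two_le]
  have h1 := S4502.result p hdiv hsq P
  -- the class number of the normalizer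
  set N := Subgroup.normalizer ((P : Subgroup G) : Set G) with hNdef
  have hPN : (P : Subgroup G) ≤ N := Subgroup.le_normalizer
  have hcard' : Nat.card ((P : Subgroup G).subgroupOf N) = p := by
    rw [Nat.card_congr (Subgroup.subgroupOfEquivOfLe hPN).toEquiv]; exact hP
  have hcent : Subgroup.centralizer (((P : Subgroup G).subgroupOf N : Subgroup N) : Set N) =
      (P : Subgroup G).subgroupOf N := by
    ext x
    rw [Subgroup.mem_centralizer_iff, Subgroup.mem_subgroupOf]
    conv_rhs => rw [← hC]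
    rw [Subgroup.mem_centralizer_iff]
    constructor
    · intro h y hy
      exact congrArg Subtype.val (h ⟨y, hPN hy⟩ hy)
    · intro h y hy
      exact Subtype.ext (h y.1 hy)
  have h7 := H638.FD.Blk.card_conj_le ((P : Subgroup G).subgroupOf N) hpp hcard' hcent
  have h8 : ((P : Subgroup G).subgroupOf N).index = e := by
    rw [← he, hC]; rfl
  rw [h8, ← h1] at h7
  have he0 : 0 < e := by
    rw [← h8]
    exact Nat.pos_of_ne_zero Subgroup.index_ne_zero_of_finite
  have h9 : Nat.card {χ : IrrCharacter G // ¬ p ∣ charDegree (χ : G → ℂ)} ≤ e + (p - 1) / e := by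
    have h10 : e + (p - 1) / e = (e * e + (p - 1)) / e := by
      rw [Nat.add_comm, ← Nat.add_mul_div_left _ _ he0, Nat.add_comm]
    rw [h10, Nat.le_div_iff_mul_le he0]
    exact h7
  have hpe : ¬ p ∣ e := fun h => by
    have h2 := Nat.le_of_dvd (by have := hpp.two_le; omega) hep
    have h3 := Nat.le_of_dvd he0 h
    have := hpp.two_le
    omega
  have hp1 : ¬ (p : ℤ) ∣ 1 := by
    intro h
    have h' : p ∣ 1 := by exact_mod_cast h
    exact hpp.one_lt.ne' (Nat.dvd_one.1 h')
  -- the block consists of characters of degree prime to `p`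
  have hsub : X ∪ Y ⊆ Finset.univ.filter fun χ : IrrCharacter G => ¬ p ∣ charDegree (χ : G → ℂ) := by
    intro χ hχ
    rw [Finset.mem_filter]
    refine ⟨Finset.mem_univ _, fun hdvd => ?_⟩
    have h' : (p : ℤ) ∣ (charDegree (χ : G → ℂ) : ℤ) := Int.natCast_dvd_natCast.2 hdvd
    rcases Finset.mem_union.1 hχ with h | h
    · have h2 := hcX χ h
      apply hp1
      have h3 := dvd_sub (Dvd.dvd.mul_left h' (δ χ)) h2
      rwa [sub_sub_cancel] at h3
    · have h2 := (Int.dvd_add_right h').1 (hcY χ h)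
      apply hpe
      rcases hδ₀ with h3 | h3
      · rw [h3, mul_one] at h2
        exact_mod_cast h2
      · rw [h3, mul_neg, mul_one, dvd_neg] at h2
        exact_mod_cast h2
  have hcardU : (X ∪ Y).card = e + (p - 1) / e := by
    rw [Finset.card_union_of_disjoint hd, hX, hY]
  have heq : X ∪ Y = Finset.univ.filter fun χ : IrrCharacter G => ¬ p ∣ charDegree (χ : G → ℂ) := by
    refine Finset.eq_of_subset_of_card_le hsub ?_
    rw [hcardU]
    rwa [Nat.card_eq_fintype_card, Fintype.card_subtype] at h9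
  refine ⟨X, Y, δ, δ₀, fun χ hχ => ?_, hX, hY, h1X, hδ1, hδ, hδ₀, hcX, hcY, hsum⟩
  rw [← Finset.mem_union, heq, Finset.mem_filter]
  exact ⟨Finset.mem_univ _, hχ⟩

end Princ

section Deg

variable {K : Type*} [Group K] [Finite K]

theorem sylow_facts [IsSimpleGroup K] {p N0 e : ℕ} [hp : Fact p.Prime] (hcard : Nat.card K = p * N0) (hpN : ¬ p ∣ N0)
    (hN0 : N0 ≠ 1) (he : e < p) (he' : e % p = N0 % p)
    (hCM : ∀ x : K, orderOf x = p → Nat.card (Subgroup.centralizer ({x} : Set K)) = p) :
    ∃ P : Sylow p K, Nat.card P = p ∧ Subgroup.centralizer ((P : Subgroup K) : Set K) = P ∧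
      (Subgroup.centralizer ((P : Subgroup K) : Set K)).relIndex
        (Subgroup.normalizer ((P : Subgroup K) : Set K)) = e ∧
      ∀ N : Subgroup K, N.Normal → N.index ≠ p := by
  have hpp := hp.out
  obtain ⟨P⟩ : Nonempty (Sylow p K) := inferInstance
  have hP : Nat.card P = p := by
    rw [P.card_eq_multiplicity, hcard, Nat.factorization_mul hpp.ne_zero (by
      intro h; rw [h] at hpN; exact hpN (dvd_zero _)), Finsupp.add_apply, hpp.factorization_self,
      Nat.factorization_eq_zero_of_not_dvd hpN, pow_one]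
  have hcyc : IsCyclic P := isCyclic_of_prime_card hP
  obtain ⟨g, hg⟩ := hcyc.exists_generator
  have hx : (P : Subgroup K) = Subgroup.zpowers (g : K) := by
    apply le_antisymm
    · intro y hy
      obtain ⟨i, hi⟩ := Subgroup.mem_zpowers_iff.1 (hg ⟨y, hy⟩)
      exact ⟨i, congrArg Subtype.val hi⟩
    · rw [Subgroup.zpowers_le]
      exact g.2
  have hox : orderOf (g : K) = p := by
    rw [← Nat.card_zpowers, ← hx]
    exact hP
  have hC : Nat.card (Subgroup.centralizer ((P : Subgroup K) : Set K)) = p := by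
    rw [hx, centralizer_zpowers, hCM _ hox]
  have hle : (P : Subgroup K) ≤ Subgroup.centralizer ((P : Subgroup K) : Set K) := by
    rw [hx, Subgroup.zpowers_le, centralizer_zpowers, Subgroup.mem_centralizer_singleton_iff]
  have hCP : Subgroup.centralizer ((P : Subgroup K) : Set K) = P :=
    (Subgroup.eq_of_le_of_card_ge hle (by rw [hC]; exact hP.ge)).symm
  refine ⟨P, hP, hCP, relIndex_eq P hP (c := 1) (by rw [hC, mul_one]) hcard hpN he
    (by rw [mul_one]; exact he'), fun N hN hidx => ?_⟩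
  rcases hN.eq_bot_or_eq_top with h | h
  · rw [h, Subgroup.index_bot, hcard] at hidx
    apply hN0
    have : p * N0 = p * 1 := by rw [hidx, mul_one]
    exact Nat.eq_of_mul_eq_mul_left hpp.pos this
  · rw [h, Subgroup.index_top] at hidx
    exact hpp.one_lt.ne hidx

theorem mem_45 [IsSimpleGroup K] (hcard : Nat.card K = 20160)
    (hC : ∀ x : K, orderOf x = 7 → Nat.card (Subgroup.centralizer ({x} : Set K)) = 7)
    (h20 : 20 ∈ charDegrees K) (h64 : 64 ∈ charDegrees K) : 45 ∈ charDegrees K := by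
  classical
  have hp : Fact (Nat.Prime 7) := ⟨by norm_num⟩
  obtain ⟨P, hP, hCP, he, hN⟩ := sylow_facts (p := 7) (N0 := 2880) (e := 3) (by rw [hcard]) (by norm_num)
    (by norm_num) (by norm_num) (by norm_num) hC
  obtain ⟨X, Y, δ, δ₀, hB, hX, hY, h1X, hδ1, hδ, hδ₀, hcX, hcY, hsum⟩ := princ P hP hCP he hN
  obtain ⟨χ, hχ⟩ := h20
  obtain ⟨ψ, hψ⟩ := h64
  have h1 := H638.FD.Blk.deg_one (G := K)
  have hχX : χ ∈ X := by
    rcases hB χ (by rw [hχ]; norm_num) with h | h
    · exact h
    · exfalso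
      have h2 := hcY χ h
      rw [hχ] at h2
      rcases hδ₀ with h3 | h3 <;> rw [h3] at h2 <;> norm_num at h2
  have hψX : ψ ∈ X := by
    rcases hB ψ (by rw [hψ]; norm_num) with h | h
    · exact h
    · exfalso
      have h2 := hcY ψ h
      rw [hψ] at h2
      rcases hδ₀ with h3 | h3 <;> rw [h3] at h2 <;> norm_num at h2
  have hδχ : δ χ = -1 := by
    rcases hδ χ hχX with h | h
    · exfalso
      have h2 := hcX χ hχX
      rw [hχ, h] at h2
      norm_num at h2
    · exact h
  have hδψ : δ ψ = 1 := by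
    rcases hδ ψ hψX with h | h
    · exact h
    · exfalso
      have h2 := hcX ψ hψX
      rw [hψ, h] at h2
      norm_num at h2
  have n1 : Characters.CCValues.one K ≠ χ := by
    intro h; rw [← h, h1] at hχ; norm_num at hχ
  have n2 : Characters.CCValues.one K ≠ ψ := by
    intro h; rw [← h, h1] at hψ; norm_num at hψ
  have n3 : χ ≠ ψ := by
    intro h; rw [h, hψ] at hχ; norm_num at hχ
  have hXeq : X = {Characters.CCValues.one K, χ, ψ} := by
    symm
    refine Finset.eq_of_subset_of_card_le ?_ ?_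
    · intro z hz
      simp only [Finset.mem_insert, Finset.mem_singleton] at hz
      rcases hz with rfl | rfl | rfl
      · exact h1X
      · exact hχX
      · exact hψX
    · rw [hX, Finset.card_insert_of_notMem (by simp [n1, n2]), Finset.card_insert_of_notMem (by simp [n3]),
        Finset.card_singleton]
  obtain ⟨θ, hθ⟩ : Y.Nonempty := by
    rw [← Finset.card_pos, hY]; norm_num
  have h2 := hsum θ hθ
  rw [hXeq, Finset.sum_insert (by simp [n1, n2]), Finset.sum_insert (by simp [n3]), Finset.sum_singleton, hδ1, h1,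
    hδχ, hδψ, hχ, hψ] at h2
  refine ⟨θ, ?_⟩
  rcases hδ₀ with h3 | h3 <;> rw [h3] at h2 <;> push_cast at h2 <;> omega

theorem mem_63 [IsSimpleGroup K] (hcard : Nat.card K = 20160)
    (hC : ∀ x : K, orderOf x = 5 → Nat.card (Subgroup.centralizer ({x} : Set K)) = 5)
    (h64 : 64 ∈ charDegrees K) : 63 ∈ charDegrees K := by
  classical
  have hp : Fact (Nat.Prime 5) := ⟨by norm_num⟩
  obtain ⟨P, hP, hCP, he, hN⟩ := sylow_facts (p := 5) (N0 := 4032) (e := 2) (by rw [hcard]) (by norm_num)
    (by norm_num) (by norm_num) (by norm_num) hC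
  obtain ⟨X, Y, δ, δ₀, hB, hX, hY, h1X, hδ1, hδ, hδ₀, hcX, hcY, hsum⟩ := princ P hP hCP he hN
  obtain ⟨ψ, hψ⟩ := h64
  have h1 := H638.FD.Blk.deg_one (G := K)
  have hψX : ψ ∈ X := by
    rcases hB ψ (by rw [hψ]; norm_num) with h | h
    · exact h
    · exfalso
      have h2 := hcY ψ h
      rw [hψ] at h2
      rcases hδ₀ with h3 | h3 <;> rw [h3] at h2 <;> norm_num at h2
  have hδψ : δ ψ = -1 := by
    rcases hδ ψ hψX with h | h
    · exfalso
      have h2 := hcX ψ hψX
      rw [hψ, h] at h2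
      norm_num at h2
    · exact h
  have n2 : Characters.CCValues.one K ≠ ψ := by
    intro h; rw [← h, h1] at hψ; norm_num at hψ
  have hXeq : X = {Characters.CCValues.one K, ψ} := by
    symm
    refine Finset.eq_of_subset_of_card_le ?_ ?_
    · intro z hz
      simp only [Finset.mem_insert, Finset.mem_singleton] at hz
      rcases hz with rfl | rfl
      · exact h1X
      · exact hψX
    · rw [hX, Finset.card_insert_of_notMem (by simp [n2]), Finset.card_singleton]
  obtain ⟨θ, hθ⟩ : Y.Nonempty := by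
    rw [← Finset.card_pos, hY]; norm_num
  have h2 := hsum θ hθ
  rw [hXeq, Finset.sum_insert (by simp [n2]), Finset.sum_singleton, hδ1, h1, hδψ, hψ] at h2
  refine ⟨θ, ?_⟩
  rcases hδ₀ with h3 | h3 <;> rw [h3] at h2 <;> push_cast at h2 <;> omega

end Deg

open Cfsg.Agent.CpAut.SmallP in
theorem card_five {x : Cfsg.Agent.ONType.Psl.PSL3} (hx : orderOf x = 5) :
    Nat.card (centralizer ({x} : Set Cfsg.Agent.ONType.Psl.PSL3)) = 5 := by
  have h1 : centralizer ({x} : Set Cfsg.Agent.ONType.Psl.PSL3) = zpowers x := by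
    apply le_antisymm
    · intro c hc
      obtain ⟨k, hk⟩ := PslFour.cent5 hx c (mem_centralizer_singleton_iff.1 hc)
      exact ⟨k, hk.symm⟩
    · rw [zpowers_le, mem_centralizer_singleton_iff]
  rw [h1, Nat.card_zpowers, hx]

open Cfsg.Agent.CpAut.SmallP in
theorem card_seven {x : Cfsg.Agent.ONType.Psl.PSL3} (hx : orderOf x = 7) :
    Nat.card (centralizer ({x} : Set Cfsg.Agent.ONType.Psl.PSL3)) = 7 := by
  have h1 : centralizer ({x} : Set Cfsg.Agent.ONType.Psl.PSL3) = zpowers x := by
    apply le_antisymm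
    · intro c hc
      obtain ⟨k, hk⟩ := PslFour.cent7 hx c (mem_centralizer_singleton_iff.1 hc)
      exact ⟨k, hk.symm⟩
    · rw [zpowers_le, mem_centralizer_singleton_iff]
  rw [h1, Nat.card_zpowers, hx]

theorem ne_of_twelve {a b n : ℕ} (hn : n ∣ 12) (h : ∀ s ∈ Nat.divisors 12, ∀ t ∈ Nat.divisors 12, a * s ≠ b * t) :
    ∀ s t, s ∣ n → t ∣ n → a * s ≠ b * t := fun s t hs ht =>
  h s (Nat.mem_divisors.2 ⟨hs.trans hn, by norm_num⟩) t (Nat.mem_divisors.2 ⟨ht.trans hn, by norm_num⟩)

theorem five_L34 {G : Type u} [Group G] [Finite G] (M : Subgroup G) (hM : M.Normal)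
    (hc : Subgroup.centralizer (M : Set G) = ⊥)
    (F : Type) [Field F] [Fintype F] (hF : Fintype.card F = 4)
    (e : Nonempty (M ≃* Matrix.ProjectiveSpecialLinearGroup (Fin 3) F)) :
    5 ≤ (Cfsg.charDegrees G).ncard := by
  classical
  obtain ⟨e⟩ := e
  have hp2 : Fact (Nat.Prime 2) := ⟨Nat.prime_two⟩
  have hchar : CharP F 2 := charP_of_card_eq_prime_pow (f := 2) (by rw [hF]; norm_num)
  obtain ⟨f⟩ := Cfsg.Agent.SporadicA.FieldFour.nonempty_psl_equiv (n := Fin 3) F hF
  have hsP : IsSimpleGroup (Matrix.ProjectiveSpecialLinearGroup (Fin 3) F) :=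
    Cfsg.Agent.S0249.result 3 (by norm_num)
  have hsM : IsSimpleGroup M := e.isSimpleGroup
  have hcard : Nat.card M = 20160 := by
    rw [Nat.card_congr (e.trans f.symm).toEquiv]
    exact Cfsg.Agent.ONType.PslCard.card_PSL3
  have hlie : IsLieTypeChar 2 M :=
    Or.inl ⟨F, inferInstance, inferInstance, hchar, 3, by norm_num, by norm_num, ⟨e⟩⟩
  have hidx : M.index ∣ 12 := by
    have h1 := H693.FiveL3.index_dvd M hc F Nat.prime_two (f := 2) (by norm_num) (by rw [hF]; norm_num) e
    rw [hF] at h1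
    exact h1.trans (by norm_num)
  have h64 : 64 ∈ charDegrees M := by
    obtain ⟨χ, hχ, h1⟩ := H163.Steinberg.exists_irr_of_hasSplit (H996.AllSplit.hasSplit_of_lie Nat.prime_two hlie)
    obtain ⟨Q⟩ : Nonempty (Sylow 2 M) := inferInstance
    have h2 := (h1 Q).1
    have hQ : Nat.card Q = 64 := by
      rw [Q.card_eq_multiplicity, hcard, show (20160 : ℕ) = 2 ^ 6 * 315 by norm_num,
        Nat.factorization_mul (by norm_num) (by norm_num), Finsupp.add_apply, Nat.prime_two.factorization_pow,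
        Finsupp.single_eq_same, Nat.factorization_eq_zero_of_not_dvd (by norm_num), add_zero]
      norm_num
    rw [hQ] at h2
    exact ⟨⟨χ, hχ⟩, Blocks.Basic.charDegree_of_eq h2⟩
  have h20 : 20 ∈ charDegrees M := by
    rw [H424.DegTools.charDegrees_congr e]
    obtain ⟨φ, hφ⟩ := H113.PSL.Facts.t3 (F := F) (n := 3) (by norm_num)
    refine ⟨φ, hφ.trans ?_⟩
    rw [hF]
    simp [Finset.sum_range_succ]
  have hC5 : ∀ x : M, orderOf x = 5 → Nat.card (Subgroup.centralizer ({x} : Set M)) = 5 := fun x hx =>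
    (card_centralizer_equiv (e.trans f.symm) x).trans (card_five ((MulEquiv.orderOf_eq _ x).trans hx))
  have hC7 : ∀ x : M, orderOf x = 7 → Nat.card (Subgroup.centralizer ({x} : Set M)) = 7 := fun x hx =>
    (card_centralizer_equiv (e.trans f.symm) x).trans (card_seven ((MulEquiv.orderOf_eq _ x).trans hx))
  have h45 := mem_45 hcard hC7 h20 h64
  have h63 := mem_63 hcard hC5 h64
  exact H740.FiveBase.five_of M h20 h45 h63 h64 (by norm_num) (by norm_num) (by norm_num) (by norm_num)
    (ne_of_twelve hidx (by decide +kernel)) (ne_of_twelve hidx (by decide +kernel))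
    (ne_of_twelve hidx (by decide +kernel)) (ne_of_twelve hidx (by decide +kernel))
    (ne_of_twelve hidx (by decide +kernel)) (ne_of_twelve hidx (by decide +kernel))

end Cfsg.Agent.H603.FD.LThree
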