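import Cfsg.Agent.H603.FD.KillMain
import Cfsg.Agent.H996.AllSplit
import Cfsg.Agent.H163.Steinberg
import Cfsg.Agent.H129.CycT
import Cfsg.Agent.H129.CycRow
import Cfsg.Agent.H161.G2Main
import Cfsg.Agent.H92.ExcF4Two
import Cfsg.Agent.S1054
import Cfsg.Agent.S1055
import Cfsg.Agent.S1059
import Cfsg.Agent.S1062
import Cfsg.Agent.S2121
import Cfsg.Agent.S2122
import Cfsg.Agent.H55.OutGen

/-!
# Almost simple groups with socle `G₂(3)`, `F₄(2)`: at least five character degrees (helper603)
-/

set_option autoImplicit false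

open Cfsg

namespace Cfsg.Agent.H603.FD.LieRows

open Subgroup Cfsg.Agent.H603.FD.Kill

universe u

/-- the Steinberg degree -/
theorem steinberg {K : Type*} [Group K] [Finite K] [IsSimpleGroup K] {p k n : ℕ} (hp : p.Prime)
    (h : IsLieTypeChar p K) (hcard : Nat.card K = p ^ k * n) (hn : ¬ p ∣ n) : p ^ k ∈ charDegrees K := by
  have : Fact p.Prime := ⟨hp⟩
  obtain ⟨χ, hχ, h1⟩ := H163.Steinberg.exists_irr_of_hasSplit (H996.AllSplit.hasSplit_of_lie hp h)
  obtain ⟨Q⟩ : Nonempty (Sylow p K) := inferInstance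
  have h2 := (h1 Q).1
  have hQ : Nat.card Q = p ^ k := by
    rw [Q.card_eq_multiplicity, hcard, Nat.factorization_mul (pow_ne_zero _ hp.ne_zero) (by
      rintro rfl; exact hn (dvd_zero _)), Finsupp.add_apply, hp.factorization_pow, Finsupp.single_eq_same,
      Nat.factorization_eq_zero_of_not_dvd hn, add_zero]
  rw [hQ] at h2
  exact ⟨⟨χ, hχ⟩, Blocks.Basic.charDegree_of_eq h2⟩

section Five

variable {G : Type u} [Group G] [Finite G]

theorem five_G23 (M : Subgroup G) (hM : M.Normal) (hc : Subgroup.centralizer (M : Set G) = ⊥)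
    (F : Type) [Field F] [Fintype F] (hF : Fintype.card F = 3)
    (h : Nonempty (M ≃* Cfsg.Lie.chevG2.group F)) : 5 ≤ (Cfsg.charDegrees G).ncard := by
  obtain ⟨e⟩ := h
  have f3 : Fact (Nat.Prime 3) := ⟨by norm_num⟩
  have f13 : Fact (Nat.Prime 13) := ⟨by norm_num⟩
  have hch : CharP F 3 := H161.G2Main.charP_of_card (n := 1) (by norm_num) (by rw [hF]; norm_num)
  have hfin : Finite (Cfsg.Lie.chevG2.group F) := Finite.of_equiv _ e.toEquiv
  have hsG : IsSimpleGroup (Cfsg.Lie.chevG2.group F) := (S1055.result ⟨-1, by simp, by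
    intro h
    have h2 : (2 : F) = 0 := by linear_combination -h
    have h3 : (3 : F) = 0 := CharP.cast_eq_zero F 3
    have : (1 : F) = 0 := by linear_combination h3 - h2
    exact one_ne_zero this⟩).1
  have hs : IsSimpleGroup M := e.isSimpleGroup
  have hcardG : Nat.card (Cfsg.Lie.chevG2.group F) = 13 * 326592 := by
    rw [S1059.result hF]; norm_num
  have hcard : Nat.card M = 13 * 326592 := (Nat.card_congr e.toEquiv).trans hcardG
  have hidx : M.index ∣ 2 := by
    have h1 := H740.FiveBase.index_dvd_out M hM hc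
    rw [H55.OutGen.card_out_congr e, S2121.result (F := F) 3 1 (by rw [hF]; norm_num) (by norm_num)] at h1
    simpa using h1
  have hex := Cfsg.Agent.H129.CycT.exact_G2_3 (F := F) (q := 3) hF (N := 13) (by norm_num) (by norm_num)
  have hCM : ∀ x : Cfsg.Lie.chevG2.group F, orderOf x = 13 →
      Nat.card (centralizer ({x} : Set (Cfsg.Lie.chevG2.group F))) = 13 := fun x hx =>
    Cfsg.Agent.H129.CycT.CycExact.card_centralizer (by norm_num) (by norm_num) hex hx
  have hlow : ∀ N : ℕ, (N = 12 ∨ N = 8 ∨ N = 7) → ∃ g : Cfsg.Lie.chevG2.group F, orderOf g = N := by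
    intro N hN
    refine H161.G2Main.lower (p := 3) (n := 1) (by norm_num) (by rw [hF]; norm_num) (by norm_num) ?_
    rcases hN with rfl | rfl | rfl
    · exact Or.inl (by norm_num)
    · exact Or.inr (Or.inr (Or.inl (by norm_num)))
    · exact Or.inr (Or.inr (Or.inr (Or.inr (Or.inl (by norm_num)))))
  have hdvd : ∀ n N : ℕ, n ≠ 0 → (∃ g : Cfsg.Lie.chevG2.group F, orderOf g = N) → N ≠ 0 → n ∣ N →
      ∃ g : Cfsg.Lie.chevG2.group F, orderOf g = n := by
    rintro n N hn ⟨g, hg⟩ hN ⟨k, hk⟩
    refine ⟨g ^ k, ?_⟩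
    have hk0 : k ≠ 0 := by rintro rfl; exact hN (by rw [hk, mul_zero])
    rw [orderOf_pow_of_dvd hk0 (by rw [hg, hk]; exact dvd_mul_left _ _), hg, hk,
      Nat.mul_div_cancel _ (Nat.pos_of_ne_zero hk0)]
  have hIM : H33.IM 13 (Cfsg.Lie.chevG2.group F) := by
    refine im_of_orders (p := 13) (N0 := 326592) (e0 := 6) hcardG (by norm_num) (by norm_num)
      (by norm_num) hCM {1, 2, 3, 4, 6, 7, 8} ?_ (by decide)
    intro n hn
    simp only [Finset.mem_insert, Finset.mem_singleton] at hn
    rcases hn with rfl | rfl | rfl | rfl | rfl | rfl | rfl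
    · exact ⟨by norm_num, hdvd _ 12 (by norm_num) (hlow 12 (by norm_num)) (by norm_num) (by norm_num)⟩
    · exact ⟨by norm_num, hdvd _ 12 (by norm_num) (hlow 12 (by norm_num)) (by norm_num) (by norm_num)⟩
    · exact ⟨by norm_num, hdvd _ 12 (by norm_num) (hlow 12 (by norm_num)) (by norm_num) (by norm_num)⟩
    · exact ⟨by norm_num, hdvd _ 12 (by norm_num) (hlow 12 (by norm_num)) (by norm_num) (by norm_num)⟩
    · exact ⟨by norm_num, hdvd _ 12 (by norm_num) (hlow 12 (by norm_num)) (by norm_num) (by norm_num)⟩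
    · exact ⟨by norm_num, hlow 7 (by norm_num)⟩
    · exact ⟨by norm_num, hlow 8 (by norm_num)⟩
  have hD : 3 ^ 6 ∈ charDegrees M := by
    refine steinberg (n := 5824) (by norm_num) ?_ (by rw [hcard]; norm_num) (by norm_num)
    exact Or.inr (Or.inr (Or.inr (Or.inr (Or.inr (Or.inr (Or.inl
      ⟨F, inferInstance, inferInstance, hch, Or.inl ⟨hF.ge, ⟨e⟩⟩⟩))))))
  exact five_of_kill (p := 13) (N0 := 326592) (e0 := 6) (e1 := 12) (D0 := 3 ^ 6) M hM hc hs hidx (by norm_num)
    hcard (by norm_num) (by norm_num) (by norm_num) (by norm_num) (by norm_num) (by norm_num) (by norm_num)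
    (fun x hx => (card_centralizer_equiv e x).trans (hCM _ ((MulEquiv.orderOf_eq e x).trans hx)))
    (hIM.of_equiv e) hD (by norm_num) (by norm_num)
    (by decide +kernel) (by decide +kernel) (by decide +kernel) (by decide +kernel) (by decide +kernel)

theorem five_F42 (M : Subgroup G) (hM : M.Normal) (hc : Subgroup.centralizer (M : Set G) = ⊥)
    (F : Type) [Field F] [Fintype F] (hF : Fintype.card F = 2)
    (h : Nonempty (M ≃* Cfsg.Lie.chevF4.group F)) : 5 ≤ (Cfsg.charDegrees G).ncard := by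
  obtain ⟨e⟩ := h
  have f2 : Fact (Nat.Prime 2) := ⟨Nat.prime_two⟩
  have f17 : Fact (Nat.Prime 17) := ⟨by norm_num⟩
  have hch : CharP F 2 := H161.G2Main.charP_of_card (n := 1) (by norm_num) (by rw [hF]; norm_num)
  have hfin : Finite (Cfsg.Lie.chevF4.group F) := Finite.of_equiv _ e.toEquiv
  have hsG : IsSimpleGroup (Cfsg.Lie.chevF4.group F) := (S1054.result (F := F) Lie.chevF4 (by simp)).1
  have hs : IsSimpleGroup M := e.isSimpleGroup
  have hcardG : Nat.card (Cfsg.Lie.chevF4.group F) = 17 * 194772153139200 := by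
    rw [S1062.result hF]; norm_num
  have hcard : Nat.card M = 17 * 194772153139200 := (Nat.card_congr e.toEquiv).trans hcardG
  have hidx : M.index ∣ 2 := by
    have h1 := H740.FiveBase.index_dvd_out M hM hc
    rw [H55.OutGen.card_out_congr e, S2122.result (F := F) 2 1 (by rw [hF]; norm_num)] at h1
    simpa using h1
  have hex := Cfsg.Agent.H129.CycT.exact_F4_8 (F := F) (q := 2) hF (N := 17) (by norm_num) (by norm_num)
  have hCM : ∀ x : Cfsg.Lie.chevF4.group F, orderOf x = 17 →
      Nat.card (centralizer ({x} : Set (Cfsg.Lie.chevF4.group F))) = 17 := fun x hx =>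
    Cfsg.Agent.H129.CycT.CycExact.card_centralizer (by norm_num) (by norm_num) hex hx
  have h20 := H92.ExcF4Two.hasOrd (F := F) H92.ExcF4Two.o20
  have h24 := H92.ExcF4Two.hasOrd (F := F) H92.ExcF4Two.o24
  have h28 := H92.ExcF4Two.hasOrd (F := F) H92.ExcF4Two.o28
  have hIM : H33.IM 17 (Cfsg.Lie.chevF4.group F) := by
    refine im_of_orders (p := 17) (N0 := 194772153139200) (e0 := 8) hcardG (by norm_num) (by norm_num)
      (by norm_num) hCM {1, 2, 3, 4, 5, 6, 7, 8, 10} ?_ (by decide)
    intro n hn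
    simp only [Finset.mem_insert, Finset.mem_singleton] at hn
    rcases hn with rfl | rfl | rfl | rfl | rfl | rfl | rfl | rfl | rfl
    · exact ⟨by norm_num, h20.of_dvd (by norm_num) (by norm_num)⟩
    · exact ⟨by norm_num, h20.of_dvd (by norm_num) (by norm_num)⟩
    · exact ⟨by norm_num, h24.of_dvd (by norm_num) (by norm_num)⟩
    · exact ⟨by norm_num, h20.of_dvd (by norm_num) (by norm_num)⟩
    · exact ⟨by norm_num, h20.of_dvd (by norm_num) (by norm_num)⟩
    · exact ⟨by norm_num, h24.of_dvd (by norm_num) (by norm_num)⟩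
    · exact ⟨by norm_num, h28.of_dvd (by norm_num) (by norm_num)⟩
    · exact ⟨by norm_num, h24.of_dvd (by norm_num) (by norm_num)⟩
    · exact ⟨by norm_num, h20.of_dvd (by norm_num) (by norm_num)⟩
  have hD : 2 ^ 24 ∈ charDegrees M := by
    refine steinberg (n := 197358525) (by norm_num) ?_ (by rw [hcard]; norm_num) (by norm_num)
    exact Or.inr (Or.inr (Or.inr (Or.inr (Or.inr (Or.inr (Or.inl
      ⟨F, inferInstance, inferInstance, hch, Or.inr (Or.inl ⟨e⟩)⟩))))))
  exact five_of_kill (p := 17) (N0 := 194772153139200) (e0 := 8) (e1 := 16) (D0 := 2 ^ 24) M hM hc hs hidx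
    (by norm_num) hcard (by norm_num) (by norm_num) (by norm_num) (by norm_num) (by norm_num) (by norm_num)
    (by norm_num) (fun x hx => (card_centralizer_equiv e x).trans (hCM _ ((MulEquiv.orderOf_eq e x).trans hx)))
    (hIM.of_equiv e) hD (by norm_num) (by norm_num)
    (by decide +kernel) (by decide +kernel) (by decide +kernel) (by decide +kernel) (by decide +kernel)

end Five

end Cfsg.Agent.H603.FD.LieRows
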